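import Cfsg.Agent.H66.UFour.Sl
import Cfsg.Agent.H66.UFour.Pairs

/-!
A homomorphism of `SL(2,3)` from an element of order four and an element of order three.
-/

set_option autoImplicit false

namespace Cfsg.Agent.H66.SuzY

open Cfsg.Agent.H66.UFour

/-- exponent of `i` -/
def np (n : ℕ) : ℕ := n % 4
/-- exponent of `j` -/
def nr (n : ℕ) : ℕ := n / 4 % 2
/-- exponent of `t` -/
def nm (n : ℕ) : ℕ := n / 8 % 3
/-- the code of `i^p j^r t^m` -/
def nc (p r m : ℕ) : ℕ := p % 4 + 4 * (r % 2) + 8 * (m % 3)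

/-- the corresponding code in `SL(2,3)` -/
def nsl (n : ℕ) : ℕ :=
  sm (sm ([0, 8, 12, sm 12 8].getD (np n) 0) ([0, 23].getD (nr n) 0)) ([0, 1, sm 1 1].getD (nm n) 0)

/-- multiplication by `t` -/
def stS (n : ℕ) : ℕ := nc (np n) (nr n) (nm n + 1)

/-- multiplication by `i` -/
def stI (n : ℕ) : ℕ :=
  match nm n with
  | 0 => nc (np n + 1 + 2 * nr n) (nr n) 0
  | 1 => nc (np n + 2 * nr n) (nr n + 1) 1
  | _ => nc (np n + 1) (nr n + 1) 2

/-- inverse table -/
def ndec (a : ℕ) : ℕ := (List.range 24).findIdx (fun n => Nat.beq (nsl n) a)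

theorem sl_tab : (∀ a < 24, ndec a < 24 ∧ nsl (ndec a) = a) ∧
    (∀ n < 24, ndec (nsl n) = n ∧ nsl n < 24 ∧ stS n < 24 ∧ stI n < 24 ∧
      nsl (stS n) = sm (nsl n) 1 ∧ nsl (stI n) = sm (nsl n) 8) ∧
    ndec 0 = 0 ∧ ndec 12 = 2 ∧ ndec 8 = 1 ∧ ndec 1 = 8 := by
  decide +kernel

theorem sl_words : ∀ a < 24, ∃ l ∈ ([[], [0], [0, 0], [1], [1, 1], [1, 1, 1], [0, 1], [1, 0],
    [0, 0, 1], [1, 0, 0], [0, 1, 1], [1, 1, 0], [0, 1, 1, 1], [1, 1, 1, 0], [0, 0, 1, 1],
    [1, 1, 0, 0], [0, 1, 0], [1, 0, 1], [0, 1, 0, 0], [0, 0, 1, 0], [1, 0, 1, 1], [1, 1, 0, 1],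
    [0, 0, 1, 1, 1], [1, 1, 1, 0, 0], [0, 1, 0, 1], [1, 0, 1, 0], [1, 0, 0, 1], [0, 1, 1, 0],
    [0, 0, 1, 0, 0], [1, 1, 1, 0, 1], [0, 1, 0, 0, 1], [1, 0, 0, 1, 0],
    [0, 1, 1, 0, 1], [1, 0, 1, 1, 0]] :
      List (List (Fin 2))),
    l.foldl (fun c k => sm c (if k = 0 then 1 else 8)) 0 = a := by
  decide +kernel

variable {G : Type*} [Group G]

/-- the data of a quaternion group with an automorphism of order three -/
structure Tri (z i t : G) : Prop where
  zz : z * z = 1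
  ii : i * i = z
  zi : z * i = i * z
  zt : z * t = t * z
  t3 : t ^ 3 = 1
  ji : t * i * t⁻¹ * i = i * (t * i * t⁻¹) * z
  tj : t * (t * i * t⁻¹) * t⁻¹ = i * (t * i * t⁻¹)

/-- the value of a code -/
def nval (i t : G) (n : ℕ) : G := i ^ np n * (t * i * t⁻¹) ^ nr n * t ^ nm n

namespace Tri

variable {z i t : G} (D : Tri z i t)
include D

theorem i4 : i ^ 4 = 1 := by rw [show 4 = 2 + 2 from rfl, pow_add, pow_two, D.ii, D.zz]

theorem val_nc (p r m : ℕ) (hr : r < 2) : nval i t (nc p r m) = i ^ p * (t * i * t⁻¹) ^ r * t ^ m := by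
  have h1 : np (nc p r m) = p % 4 := by unfold np nc; omega
  have h2 : nr (nc p r m) = r := by unfold nr nc; omega
  have h3 : nm (nc p r m) = m % 3 := by unfold nm nc; omega
  rw [nval, h1, h2, h3, ← pow_eq_pow_mod p D.i4, ← pow_eq_pow_mod m D.t3]

theorem val_stS (n : ℕ) : nval i t (stS n) = nval i t n * t := by
  rw [stS, D.val_nc _ (nr n) _ (Nat.mod_lt _ (by norm_num)), pow_succ, ← mul_assoc]
  rfl

theorem val_stI (n : ℕ) : nval i t (stI n) = nval i t n * i := by
  have hjj : (t * i * t⁻¹) * (t * i * t⁻¹) = z := by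
    calc (t * i * t⁻¹) * (t * i * t⁻¹) = t * (i * i) * t⁻¹ := by group
      _ = z := by rw [D.ii, ← D.zt, mul_inv_cancel_right]
  set j := t * i * t⁻¹ with hj
  have hti : t * i = j * t := by rw [hj]; group
  have htj : t * j = i * j * t := mul_inv_eq_iff_eq_mul.1 D.tj
  have zj : z * j = j * z := by rw [← hjj, mul_assoc]
  have pz : ∀ k : ℕ, i ^ (k + 2) = i ^ k * z := fun k => by rw [pow_add, pow_two, D.ii]
  have hp : np n < 4 := Nat.mod_lt _ (by norm_num)
  have hr : nr n < 2 := Nat.mod_lt _ (by norm_num)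
  have hm : nm n < 3 := Nat.mod_lt _ (by norm_num)
  unfold stI nval
  rw [← hj]
  generalize np n = p
  generalize nr n = r at hr
  generalize nm n = m at hm
  interval_cases r <;> interval_cases m
  · show nval i t (nc (p + 1 + 2 * 0) 0 0) = _
    rw [D.val_nc _ _ _ (by norm_num), ← hj]
    simp [pow_succ]
  · show nval i t (nc (p + 2 * 0) (0 + 1) 1) = _
    rw [D.val_nc _ _ _ (by norm_num), ← hj]
    simp only [mul_zero, add_zero, zero_add, pow_zero, pow_one, mul_one, mul_assoc]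
    rw [hti]
  · show nval i t (nc (p + 1) (0 + 1) 2) = _
    rw [D.val_nc _ _ _ (by norm_num), ← hj]
    simp only [zero_add, pow_zero, pow_one, mul_one, pow_succ i, pow_two t, mul_assoc]
    rw [hti, ← mul_assoc t j, htj]
    simp only [mul_assoc]
  · show nval i t (nc (p + 1 + 2 * 1) 1 0) = _
    rw [D.val_nc _ _ _ (by norm_num), ← hj]
    simp only [mul_one, pow_zero, pow_one, pz, pow_succ i, mul_assoc]
    rw [D.ji, mul_assoc i j z, zj]
  · show nval i t (nc (p + 2 * 1) (1 + 1) 1) = _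
    rw [show nc (p + 2 * 1) (1 + 1) 1 = nc (p + 2) 0 1 by simp [nc], D.val_nc _ _ _ (by norm_num), ← hj]
    simp only [pow_zero, pow_one, mul_one, pz, mul_assoc]
    rw [hti, ← mul_assoc j j, hjj]
  · show nval i t (nc (p + 1) (1 + 1) 2) = _
    rw [show nc (p + 1) (1 + 1) 2 = nc (p + 1) 0 2 by simp [nc], D.val_nc _ _ _ (by norm_num), ← hj]
    simp only [pow_zero, pow_one, mul_one, pow_two t, pow_succ i]
    have h1 : t * t * i = i * j * (t * t) := by
      calc t * t * i = t * (t * i) := mul_assoc _ _ _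
        _ = t * j * t := by rw [hti, ← mul_assoc]
        _ = _ := by rw [htj]; group
    have h2 : j * (i * j) = i := by
      calc j * (i * j) = i * j * z * j := by rw [← mul_assoc, D.ji]
        _ = i * (z * z) := by rw [mul_assoc (i * j), zj, ← mul_assoc, mul_assoc i, hjj, mul_assoc]
        _ = i := by rw [D.zz, mul_one]
    symm
    calc i ^ p * j * (t * t) * i = i ^ p * j * (t * t * i) := by group
      _ = i ^ p * (j * (i * j)) * (t * t) := by rw [h1]; group
      _ = _ := by rw [h2]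

end Tri

/-- the map -/
noncomputable def triFn (i t : G) (g : S2) : G := nval i t (ndec (sl_surj g).choose)

namespace Tri

variable {z i t : G} (D : Tri z i t)
include D

omit D in
theorem fn_sl {a : ℕ} (ha : a < 24) : triFn i t (sl a) = nval i t (ndec a) := by
  have h := (sl_surj (sl a)).choose_spec
  rw [triFn, sl_inj h.1 ha h.2]

theorem fn_mul_gen {c : ℕ} (hc : c = 1 ∨ c = 8) (g : S2) :
    triFn i t (g * sl c) = triFn i t g * triFn i t (sl c) := by
  obtain ⟨a, ha, rfl⟩ := sl_surj g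
  have hc' : c < 24 := by rcases hc with rfl | rfl <;> norm_num
  obtain ⟨hn, hna⟩ := sl_tab.1 a ha
  obtain ⟨-, -, l1, l8, e1, e8⟩ := sl_tab.2.1 _ hn
  rw [hna] at e1 e8
  rw [← sl_mul ha hc', fn_sl (sm_lt a ha c hc'), fn_sl ha, fn_sl hc']
  rcases hc with rfl | rfl
  · rw [← e1, (sl_tab.2.1 _ l1).1, D.val_stS, sl_tab.2.2.2.2.2]
    show _ = _ * (i ^ 0 * (t * i * t⁻¹) ^ 0 * t ^ 1)
    simp
  · rw [← e8, (sl_tab.2.1 _ l8).1, D.val_stI, sl_tab.2.2.2.2.1]
    show _ = _ * (i ^ 1 * (t * i * t⁻¹) ^ 0 * t ^ 0)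
    simp

/-- the homomorphism -/
noncomputable def hom : S2 →* G where
  toFun := triFn i t
  map_one' := by
    rw [← sl_zero, fn_sl (by norm_num), sl_tab.2.2.1]
    simp [nval, np, nr, nm]
  map_mul' g h := by
    obtain ⟨a, ha, rfl⟩ := sl_surj h
    obtain ⟨l, -, hl⟩ := sl_words a ha
    have key : ∀ (l : List (Fin 2)) c, c < 24 → (∀ g, triFn i t (g * sl c) = triFn i t g * triFn i t (sl c)) →
        ∀ g, triFn i t (g * sl (l.foldl (fun c k => sm c (if k = 0 then 1 else 8)) c)) =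
          triFn i t g * triFn i t (sl (l.foldl (fun c k => sm c (if k = 0 then 1 else 8)) c)) := by
      intro l
      induction l with
      | nil => intro c _ h g; exact h g
      | cons k l ih =>
        intro c hc h
        have hd : (if k = 0 then 1 else 8) = 1 ∨ (if k = 0 then 1 else 8) = 8 := by
          split <;> simp
        have hd' : (if k = 0 then 1 else 8) < 24 := by split <;> norm_num
        refine ih _ (sm_lt c hc _ hd') fun g => ?_
        rw [sl_mul hc hd', ← mul_assoc, D.fn_mul_gen hd, h, D.fn_mul_gen hd, mul_assoc]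
    have h0 : ∀ g, triFn i t (g * sl 0) = triFn i t g * triFn i t (sl 0) := fun g => by
      rw [sl_zero, mul_one, show triFn i t 1 = 1 by
        rw [← sl_zero, fn_sl (by norm_num), sl_tab.2.2.1]; simp [nval, np, nr, nm], mul_one]
    rw [← hl]
    exact key l 0 (by norm_num) h0 g

theorem hom_sl {a : ℕ} (ha : a < 24) : D.hom (sl a) = nval i t (ndec a) := fn_sl ha

theorem hom_neg : D.hom (-1) = z := by
  rw [← sl_twelve, D.hom_sl (by norm_num), sl_tab.2.2.2.1]
  simp [nval, np, nr, nm, pow_two, D.ii]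

theorem hom_one' : D.hom (sl 1) = t := by
  rw [D.hom_sl (by norm_num), sl_tab.2.2.2.2.2]
  simp [nval, np, nr, nm]

theorem hom_eight : D.hom (sl 8) = i := by
  rw [D.hom_sl (by norm_num), sl_tab.2.2.2.2.1]
  simp [nval, np, nr, nm]

/-- every value is in normal form -/
theorem hom_form (g : S2) : ∃ p < 4, ∃ r < 2, ∃ m < 3,
    D.hom g = i ^ p * (t * i * t⁻¹) ^ r * t ^ m ∧ (p = 0 → r = 0 → m = 0 → g = 1) ∧
      (p = 2 → r = 0 → m = 0 → g = -1) := by
  obtain ⟨a, ha, rfl⟩ := sl_surj g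
  obtain ⟨hn, hna⟩ := sl_tab.1 a ha
  have facts : nsl 0 = 0 ∧ nsl 2 = 12 := by decide +kernel
  have hdec : ndec a = np (ndec a) + 4 * nr (ndec a) + 8 * nm (ndec a) := by
    unfold np nr nm; omega
  refine ⟨_, Nat.mod_lt _ (by norm_num), _, Nat.mod_lt _ (by norm_num), _, Nat.mod_lt _ (by norm_num),
    D.hom_sl ha, fun h1 h2 h3 => ?_, fun h1 h2 h3 => ?_⟩
  · have e : ndec a = 0 := by change np (ndec a) = 0 at h1; change nr (ndec a) = 0 at h2; change nm (ndec a) = 0 at h3; omega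
    rw [← hna, e, facts.1, sl_zero]
  · have e : ndec a = 2 := by change np (ndec a) = 2 at h1; change nr (ndec a) = 0 at h2; change nm (ndec a) = 0 at h3; omega
    rw [← hna, e, facts.2, sl_twelve]

end Tri

end Cfsg.Agent.H66.SuzY
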