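import Cfsg.Agent.H66.SuzY.Std
import Cfsg.Agent.H66.SuzY.SlHom

/-!
The configuration of three rotations of orthogonal planes.
-/

set_option autoImplicit false
set_option linter.unusedSectionVars false
set_option synthInstance.maxSize 4000
set_option synthInstance.maxHeartbeats 400000

namespace Cfsg.Agent.H66.SuzY

open QuadraticMap Cfsg.Agent.Orthogonal Cfsg.Agent.H73.Suz Cfsg.Agent.H92.ExtraForm

theorem plane_values :
    fq E1 = 1 ∧ fq E2 = 1 ∧ fb E1 (rotV E1 F1 E1) = 1 ∧ fb E2 (rotV E2 F2 E2) = 1 ∧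
      rotV E1 F1 (rotV E1 F1 E1) = E1 + rotV E1 F1 E1 ∧
      rotV E2 F2 (rotV E2 F2 E2) = E2 + rotV E2 F2 E2 := by
  decide +kernel

variable {G : Type*} [Group G] [Finite G] {z : G} {Q : Subgroup G}

/-- three commuting rotations and elements of the two planes -/
structure Cfg (h : Setup z Q) (y t1 t2 i1 i2 : G) : Prop where
  hy : Three z y
  h1 : Three z t1
  h2 : Three z t2
  y1 : y * t1 = t1 * y
  y2 : y * t2 = t2 * y
  t12 : t1 * t2 = t2 * t1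
  ρy : h.ρ y = g0
  ρ1 : h.ρ t1 = r1
  ρ2 : h.ρ t2 = r2
  m1 : i1 ∈ Q
  m2 : i2 ∈ Q
  π1 : h.π i1 = E1
  π2 : h.π i2 = E2
  tri1 : Tri z i1 t1
  tri2 : Tri z i2 t2

theorem exists_tri (h : Setup z Q) {t : G} (ht : Three z t) {e : V6} (he : fq e = 1)
    (hfb : fb e ((h.ρ t : V6 ≃ₗ[ZMod 2] V6) e) = 1)
    (hrot : (h.ρ t : V6 ≃ₗ[ZMod 2] V6) ((h.ρ t : V6 ≃ₗ[ZMod 2] V6) e) =
      e + (h.ρ t : V6 ≃ₗ[ZMod 2] V6) e) :
    ∃ i ∈ Q, h.π i = e ∧ Tri z i t := by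
  obtain ⟨i, hi, hπ⟩ := h.π_surj e
  have base : ∀ i ∈ Q, h.π i = e → t * (t * i * t⁻¹) * t⁻¹ = i * (t * i * t⁻¹) → Tri z i t := by
    intro i hi hπ htj
    have hj := h.norm t ht.xz i hi
    refine ⟨h.zz, ?_, (h.le i hi).symm, ht.xz.symm, ?_, ?_, htj⟩
    · rw [h.sq i hi, hπ, phi_fq, he]; simp [zp]
    · rw [pow_succ, pow_two, mul_assoc, ht.cube]
    · rw [h.comm i hi _ hj, hπ, h.ρ_π t ht.xz i hi, hπ, polar_fb, hfb]; simp [zp]
  have hj := h.norm t ht.xz i hi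
  have hπj : h.π (t * (t * i * t⁻¹) * t⁻¹) = h.π (i * (t * i * t⁻¹)) := by
    rw [h.ρ_π t ht.xz _ hj, h.π_mul _ hi _ hj, h.ρ_π t ht.xz i hi, hπ, hrot]
  rcases h.π_eq (mul_mem hi hj) (h.norm t ht.xz _ hj) hπj.symm with c | c
  · exact ⟨i, hi, hπ, base i hi hπ c⟩
  · have hiz : i * z ∈ Q := mul_mem hi h.hzQ
    have hπ' : h.π (i * z) = e := by rw [h.π_mul _ hi _ h.hzQ, h.π_z, add_zero, hπ]
    refine ⟨i * z, hiz, hπ', base _ hiz hπ' ?_⟩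
    have hzt : t * z * t⁻¹ = z := by rw [ht.xz, mul_inv_cancel_right]
    have e1 : t * (i * z) * t⁻¹ = t * i * t⁻¹ * z := by
      calc t * (i * z) * t⁻¹ = t * i * t⁻¹ * (t * z * t⁻¹) := by group
        _ = _ := by rw [hzt]
    rw [e1, ← conj_mul, c, hzt]
    calc i * (t * i * t⁻¹) * z * z = i * (t * i * t⁻¹) := by rw [mul_assoc, h.zz, mul_one]
      _ = i * z * (z * (t * i * t⁻¹)) := by
        rw [← mul_assoc (i * z), mul_assoc i z z, h.zz, mul_one]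
      _ = _ := by rw [← h.le _ hj]

theorem exists_cfg (h : Setup z Q) {y : G} (hy : Three z y) (hρ : h.ρ y = g0) :
    ∃ t1 t2 i1 i2, Cfg h y t1 t2 i1 i2 := by
  obtain ⟨q1, q2, b1, b2, s1, s2⟩ := plane_values
  obtain ⟨c1, hc1, ρc1, hcy⟩ := lift_one h r1_mem hy hy (by rw [hρ, ← g0_r1, mul_inv_cancel_right])
  obtain ⟨h1, ρ1⟩ := three_of_lift h r1_three hc1 ρc1
  have y1 : y * c1 ^ 4 = c1 ^ 4 * y :=
    ((show Commute c1 y from mul_inv_eq_iff_eq_mul.1 hcy).pow_left 4).eq.symm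
  obtain ⟨c2, hc2, ρc2, hc21, hc2y⟩ := lift_two h r2_mem h1 h1 hy hy y1.symm y1.symm
    (by rw [ρ1, ← r1_r2, mul_inv_cancel_right]) (by rw [hρ, ← g0_r2, mul_inv_cancel_right])
  obtain ⟨h2, ρ2⟩ := three_of_lift h r2_three hc2 ρc2
  have y2 : y * c2 ^ 4 = c2 ^ 4 * y :=
    ((show Commute c2 y from mul_inv_eq_iff_eq_mul.1 hc2y).pow_left 4).eq.symm
  have t12 : c1 ^ 4 * c2 ^ 4 = c2 ^ 4 * c1 ^ 4 :=
    ((show Commute c2 (c1 ^ 4) from mul_inv_eq_iff_eq_mul.1 hc21).pow_left 4).eq.symm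
  obtain ⟨i1, m1, p1, tri1⟩ := exists_tri h h1 q1 (by rw [ρ1, r1_app]; exact b1)
    (by rw [ρ1, r1_app, r1_app]; exact s1)
  obtain ⟨i2, m2, p2, tri2⟩ := exists_tri h h2 q2 (by rw [ρ2, r2_app]; exact b2)
    (by rw [ρ2, r2_app, r2_app]; exact s2)
  exact ⟨_, _, _, _, hy, h1, h2, y1, y2, t12, hρ, ρ1, ρ2, m1, m2, p1, p2, tri1, tri2⟩

end Cfsg.Agent.H66.SuzY
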