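import Cfsg.Agent.H73.Suz.Basic

/-!
Lifting isometries to elements centralising given elements of order three.
-/

set_option autoImplicit false
set_option linter.unusedSectionVars false

namespace Cfsg.Agent.H66.SuzY

open QuadraticMap Cfsg.Agent.Orthogonal Cfsg.Agent.H73.Suz Cfsg.Agent.H92.ExtraForm

variable {G : Type*} [Group G] [Finite G] {z : G} {Q : Subgroup G} (h : Setup z Q)

/-- an element of order three centralising `z` -/
structure Three (z x : G) : Prop where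
  xz : x * z = z * x
  cube : x * (x * x) = 1

include h

theorem rho_comm {c d : G} (hc : c * z = z * c) (hd : d * z = z * d) (e : c * d = d * c) :
    h.ρ c * h.ρ d = h.ρ d * h.ρ c := by
  rw [← h.ρ_mul _ _ hc hd, e, h.ρ_mul _ _ hd hc]

theorem rho_three {x : G} (hx : Three z x) : h.ρ x * (h.ρ x * h.ρ x) = 1 := by
  rw [← h.ρ_mul _ _ hx.xz hx.xz, ← h.ρ_mul _ _ hx.xz (h.mul_comm' hx.xz hx.xz), hx.cube, h.ρ_one]

/-- a fixed image gives a commuting element -/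
theorem comm_of_fixed {x q : G} (hx : Three z x) (hq : q ∈ Q)
    (hf : (h.ρ x : V6 ≃ₗ[ZMod 2] V6) (h.π q) = h.π q) : x * q = q * x := by
  have hq' : x * q * x⁻¹ ∈ Q := h.norm x hx.xz q hq
  rcases h.π_eq hq hq' (by rw [h.ρ_π x hx.xz q hq, hf]) with e | e
  · exact mul_inv_eq_iff_eq_mul.1 e
  · exfalso
    have hz : x * z * x⁻¹ = z := by rw [hx.xz, mul_inv_cancel_right]
    have h3 : x * (x * (x * q * x⁻¹) * x⁻¹) * x⁻¹ = q := by
      calc x * (x * (x * q * x⁻¹) * x⁻¹) * x⁻¹ = (x * (x * x)) * q * (x * (x * x))⁻¹ := by group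
        _ = q := by rw [hx.cube, one_mul, inv_one, mul_one]
    have e2 : x * (q * z) * x⁻¹ = q := by
      rw [← conj_mul, e, hz, mul_assoc, h.zz, mul_one]
    rw [e, e2, e] at h3
    exact h.z_ne (mul_eq_left.1 h3)

theorem fixed_of_comm {x q : G} (hx : x * z = z * x) (hq : q ∈ Q) (e : x * q = q * x) :
    (h.ρ x : V6 ≃ₗ[ZMod 2] V6) (h.π q) = h.π q := by
  rw [← h.ρ_π x hx q hq, e, mul_inv_cancel_right]

theorem quot_mem {x x' : G} (hx : x * z = z * x) (hx' : x' * z = z * x') (e : h.ρ x' = h.ρ x) :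
    x⁻¹ * x' ∈ Q :=
  (h.ρ_ker _ (h.mul_comm' (h.inv_comm hx) hx')).1
    (by rw [h.ρ_mul _ _ (h.inv_comm hx) hx', h.ρ_inv hx, e, inv_mul_cancel])

/-- elements of order three with the same image are conjugate under `Q` -/
theorem conj_three {x x' : G} (hx : Three z x) (hx' : Three z x') (e : h.ρ x' = h.ρ x) :
    ∃ r ∈ Q, r * x * r⁻¹ = x' ∧ h.π r =
      (h.ρ x : V6 ≃ₗ[ZMod 2] V6) ((h.ρ x : V6 ≃ₗ[ZMod 2] V6) (h.π (x⁻¹ * x'))) := by
  have hqQ := quot_mem h hx.xz hx'.xz e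
  set q := x⁻¹ * x' with hq
  have hxq : x' = x * q := by rw [hq, mul_inv_cancel_left]
  set g := h.ρ x with hg
  set v := h.π q with hv
  have hg3 : ∀ u : V6, (g : V6 ≃ₗ[ZMod 2] V6)
      ((g : V6 ≃ₗ[ZMod 2] V6) ((g : V6 ≃ₗ[ZMod 2] V6) u)) = u := fun u => by
    rw [← mul_app (g : V6 ≃ₗ[ZMod 2] V6) (g : V6 ≃ₗ[ZMod 2] V6), ← mul_app, ← Subgroup.coe_mul,
      ← Subgroup.coe_mul, hg, mul_assoc, rho_three h hx]
    rfl
  have hxx : x * x * z = z * (x * x) := h.mul_comm' hx.xz hx.xz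
  have n1 := h.norm x hx.xz q hqQ
  have n2 := h.norm (x * x) hxx q hqQ
  have hsum : (g : V6 ≃ₗ[ZMod 2] V6) v + (g : V6 ≃ₗ[ZMod 2] V6) ((g : V6 ≃ₗ[ZMod 2] V6) v) + v = 0 := by
    have e3 : x * q * x⁻¹ * (x * x * q * (x * x)⁻¹) * q = 1 := by
      have h3 := hx'.cube
      rw [hxq] at h3
      calc x * q * x⁻¹ * (x * x * q * (x * x)⁻¹) * q
          = x * q * (x * q) * (x * (x * x))⁻¹ * (x * q) := by group
        _ = x * q * (x * q) * (x * q) := by rw [hx.cube, inv_one, mul_one]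
        _ = 1 := by rw [mul_assoc, h3]
    have := congrArg h.π e3
    rw [h.π_mul _ (mul_mem n1 n2) _ hqQ, h.π_mul _ n1 _ n2, h.π_one, h.ρ_π x hx.xz q hqQ,
      h.ρ_π (x * x) hxx q hqQ, h.ρ_mul _ _ hx.xz hx.xz, Subgroup.coe_mul, mul_app] at this
    exact this
  obtain ⟨r, hr, hπr⟩ := h.π_surj ((g : V6 ≃ₗ[ZMod 2] V6) ((g : V6 ≃ₗ[ZMod 2] V6) v))
  refine ⟨r, hr, ?_, hπr⟩
  have n3 := h.norm (x * x) hxx r hr
  have hval : h.π (x * x * r * (x * x)⁻¹ * r⁻¹) = v := by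
    rw [h.π_mul _ n3 _ (inv_mem hr), h.π_inv hr, h.ρ_π (x * x) hxx r hr, h.ρ_mul _ _ hx.xz hx.xz,
      Subgroup.coe_mul, mul_app, hπr, hg3]
    exact eq_of_add_eq_zero' hsum
  have hrw : r * x * r⁻¹ = x * (x * x * r * (x * x)⁻¹ * r⁻¹) := by
    calc r * x * r⁻¹ = (x * (x * x)) * r * (x * (x * x))⁻¹ * x * r⁻¹ := by
          rw [hx.cube, one_mul, inv_one, mul_one]
      _ = _ := by group
  rcases h.π_eq hqQ (mul_mem n3 (inv_mem hr)) (by rw [hval]) with d | d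
  · rw [hrw, d, ← hxq]
  · exfalso
    have hc : r * x * r⁻¹ * (r * x * r⁻¹ * (r * x * r⁻¹)) = 1 := by
      calc r * x * r⁻¹ * (r * x * r⁻¹ * (r * x * r⁻¹)) = r * (x * (x * x)) * r⁻¹ := by group
        _ = 1 := by rw [hx.cube, mul_one, mul_inv_cancel]
    rw [hrw, d, ← mul_assoc x q z, ← hxq] at hc
    apply h.z_ne
    calc z = x' ^ 3 * z ^ 3 := by
          rw [pow_succ', pow_two, hx'.cube, one_mul, pow_succ, pow_two, h.zz, one_mul]
      _ = (x' * z) ^ 3 := ((show Commute x' z from hx'.xz).mul_pow 3).symm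
      _ = x' * z * (x' * z * (x' * z)) := by rw [pow_succ', pow_two]
      _ = 1 := hc

theorem three_conj {x c : G} (hx : Three z x) (hc : c * z = z * c) : Three z (c * x * c⁻¹) := by
  refine ⟨h.conj_comm hc hx.xz, ?_⟩
  calc c * x * c⁻¹ * (c * x * c⁻¹ * (c * x * c⁻¹)) = c * (x * (x * x)) * c⁻¹ := by group
    _ = 1 := by rw [hx.cube, mul_one, mul_inv_cancel]

/-- lifting with one prescribed conjugation -/
theorem lift_one {k : O phi} (hk : k ∈ commutator (O phi)) {x x' : G} (hx : Three z x)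
    (hx' : Three z x') (e : k * h.ρ x * k⁻¹ = h.ρ x') :
    ∃ c, c * z = z * c ∧ h.ρ c = k ∧ c * x * c⁻¹ = x' := by
  obtain ⟨c, hc, rfl⟩ := h.ρ_surj k hk
  rw [← h.ρ_conj hc hx.xz] at e
  obtain ⟨r, hr, hrx, -⟩ := conj_three h (three_conj h hx hc) hx' e.symm
  refine ⟨r * c, h.mul_comm' (h.le r hr) hc, ?_, ?_⟩
  · rw [h.ρ_mul _ _ (h.le r hr) hc, h.ρ_Q hr, one_mul]
  · rw [← hrx]; group

/-- lifting with two prescribed conjugations of commuting elements -/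
theorem lift_two {k : O phi} (hk : k ∈ commutator (O phi)) {x x' y y' : G} (hx : Three z x)
    (hx' : Three z x') (hy : Three z y) (hy' : Three z y') (hxy : x * y = y * x)
    (hxy' : x' * y' = y' * x') (e : k * h.ρ x * k⁻¹ = h.ρ x') (e' : k * h.ρ y * k⁻¹ = h.ρ y') :
    ∃ c, c * z = z * c ∧ h.ρ c = k ∧ c * x * c⁻¹ = x' ∧ c * y * c⁻¹ = y' := by
  obtain ⟨c, hc, hρ, hcy⟩ := lift_one h hk hy hy' e'
  subst hρ
  rw [← h.ρ_conj hc hx.xz] at e
  have hx1 := three_conj h hx hc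
  obtain ⟨r, hr, hrx, hπr⟩ := conj_three h hx1 hx' e.symm
  have c1 : Commute y' (c * x * c⁻¹) := by
    rw [← hcy]
    show c * y * c⁻¹ * (c * x * c⁻¹) = c * x * c⁻¹ * (c * y * c⁻¹)
    rw [conj_mul, conj_mul, hxy]
  have c2 : Commute y' x' := hxy'.symm
  have hfix : (h.ρ y' : V6 ≃ₗ[ZMod 2] V6) (h.π r) = h.π r := by
    have h0 := fixed_of_comm h hy'.xz (quot_mem h hx1.xz hx'.xz e.symm) (c1.inv_right.mul_right c2).eq
    have hsw : ∀ v, (h.ρ y' : V6 ≃ₗ[ZMod 2] V6) ((h.ρ (c * x * c⁻¹) : V6 ≃ₗ[ZMod 2] V6) v) =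
        (h.ρ (c * x * c⁻¹) : V6 ≃ₗ[ZMod 2] V6) ((h.ρ y' : V6 ≃ₗ[ZMod 2] V6) v) := fun v => by
      rw [← mul_app, ← mul_app, ← Subgroup.coe_mul, ← Subgroup.coe_mul,
        rho_comm h hy'.xz hx1.xz c1.eq]
    rw [hπr, hsw, hsw, h0]
  have hyr := comm_of_fixed h hy' hr hfix
  refine ⟨r * c, h.mul_comm' (h.le r hr) hc, ?_, ?_, ?_⟩
  · rw [h.ρ_mul _ _ (h.le r hr) hc, h.ρ_Q hr, one_mul]
  · rw [← hrx]; group
  · calc r * c * y * (r * c)⁻¹ = r * (c * y * c⁻¹) * r⁻¹ := by group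
      _ = y' := by rw [hcy, ← hyr, mul_inv_cancel_right]

/-- an element of order three over an element of order three -/
theorem three_of_lift {k : O phi} (hk : k * (k * k) = 1) {c : G} (hc : c * z = z * c)
    (hρ : h.ρ c = k) : Three z (c ^ 4) ∧ h.ρ (c ^ 4) = k := by
  have hp : ∀ n : ℕ, c ^ n * z = z * c ^ n := fun n => ((show Commute c z from hc).pow_left n).eq
  have h3 : c ^ 3 ∈ Q := (h.ρ_ker _ (hp 3)).1 (by
    rw [h.ρ_pow hc, hρ, pow_succ, pow_two, mul_assoc, hk])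
  refine ⟨⟨hp 4, ?_⟩, ?_⟩
  · rw [← pow_add, ← pow_add, show 4 + (4 + 4) = 3 * 4 from rfl, pow_mul, h.pow_four h3]
  · rw [h.ρ_pow hc, hρ, pow_succ', pow_succ', pow_two, hk, mul_one]

end Cfsg.Agent.H66.SuzY
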