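import Cfsg.Agent.H66.SuzY.Planes
import Cfsg.Agent.H66.SuzY.Lift

/-!
An element of order three with quaternion commutator in the core rotates one plane; coordinates
can be chosen to make it the first plane.
-/

set_option autoImplicit false
set_option linter.unusedSectionVars false
set_option synthInstance.maxSize 4000
set_option synthInstance.maxHeartbeats 400000

namespace Cfsg.Agent.H66.SuzY

open QuadraticMap Cfsg.Agent.Orthogonal Cfsg.Agent.H73.Suz Cfsg.Agent.H92.ExtraForm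

theorem move_A : ∀ a : V6, fq a = 1 → ∃ c, fq c = 1 ∧ fb a c = 1 ∧ fb c A0 = 1 := by
  decide +kernel

theorem move_U : ∀ b : V6, fq b = 1 → fb A0 b = 1 →
    fb b U0 = 1 ∨ ∃ c, fq c = 1 ∧ fb A0 c = 1 ∧ fb b c = 1 ∧ fb c U0 = 1 := by
  decide +kernel

theorem step_facts : ∀ a c : V6, fq a = 1 → fq c = 1 → fb a c = 1 →
    fq (a + c) = 1 ∧ refV (a + c) a = c := by
  decide +kernel

theorem g0_spec : ∀ v : V6, rotV A0 U0 v = v + fb U0 v • (A0 + U0) + fb A0 v • A0 := by
  decide +kernel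

theorem exists_move {a b : V6} (ha : fq a = 1) (hb : fq b = 1) (hab : fb a b = 1) :
    ∃ k : O phi, (k : V6 ≃ₗ[ZMod 2] V6) a = A0 ∧ (k : V6 ≃ₗ[ZMod 2] V6) b = U0 := by
  obtain ⟨qA, qU', -⟩ := fq_basis
  obtain ⟨c, hc, c1, c2⟩ := move_A a ha
  set k1 := rO phi (c + A0) * rO phi (a + c) with hk1
  obtain ⟨q1, s1⟩ := step_facts a c ha hc c1
  obtain ⟨q2, s2⟩ := step_facts c A0 hc qA c2
  have e1 : (k1 : V6 ≃ₗ[ZMod 2] V6) a = A0 := by
    rw [hk1, Subgroup.coe_mul, mul_app, rO_refV q1, s1, rO_refV q2, s2]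
  set b' := (k1 : V6 ≃ₗ[ZMod 2] V6) b with hb'
  have qb : fq b' = 1 := by rw [hb', fq_app, hb]
  have hAb : fb A0 b' = 1 := by rw [← e1, hb', fb_app, hab]
  rcases move_U b' qb hAb with hbU | ⟨d, hd, d1, d2, d3⟩
  · obtain ⟨q5, s5⟩ := step_facts b' U0 qb qU' hbU
    have AU' : fb U0 A0 = 1 := by decide +kernel
    have f5 : fb (b' + U0) A0 = 0 := by rw [fb_add_left, fb_comm b', hAb, AU']; rfl
    refine ⟨rO phi (b' + U0) * k1, ?_, ?_⟩
    · rw [Subgroup.coe_mul, mul_app, e1, rO_refV q5]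
      simp [refV, f5]
    · rw [Subgroup.coe_mul, mul_app, ← hb', rO_refV q5, s5]
  obtain ⟨q3, s3⟩ := step_facts b' d qb hd d2
  obtain ⟨q4, s4⟩ := step_facts d U0 hd qU' d3
  have AU : fb U0 A0 = 1 := by decide +kernel
  have f3 : fb (b' + d) A0 = 0 := by
    rw [fb_add_left, fb_comm b', fb_comm d, hAb, d1]; rfl
  have f4 : fb (d + U0) A0 = 0 := by rw [fb_add_left, fb_comm d, d1, AU]; rfl
  refine ⟨rO phi (d + U0) * rO phi (b' + d) * k1, ?_, ?_⟩
  · rw [Subgroup.coe_mul, mul_app, e1, Subgroup.coe_mul, mul_app, rO_refV q3, rO_refV q4]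
    simp [refV, f3, f4]
  · rw [Subgroup.coe_mul, mul_app, ← hb', Subgroup.coe_mul, mul_app, rO_refV q3, s3, rO_refV q4, s4]

variable {G : Type*} [Group G] [Finite G] {z : G} {Q : Subgroup G}

/-- change of coordinates -/
noncomputable def twist (h : Setup z Q) (k : O phi) : Setup z Q where
  hzo := h.hzo
  hzQ := h.hzQ
  le := h.le
  norm := h.norm
  π x := (k : V6 ≃ₗ[ZMod 2] V6) (h.π x)
  π_mul a ha b hb := by rw [h.π_mul a ha b hb, map_add]
  π_surj v := by
    obtain ⟨q, hq, e⟩ := h.π_surj (((k⁻¹ : O phi) : V6 ≃ₗ[ZMod 2] V6) v)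
    exact ⟨q, hq, by rw [e, ← mul_app, ← Subgroup.coe_mul, mul_inv_cancel]; rfl⟩
  π_zero q hq := by rw [LinearEquiv.map_eq_zero_iff]; exact h.π_zero q hq
  sq q hq := by rw [O.map_app]; exact h.sq q hq
  comm q hq r hr := by rw [O.polar_app]; exact h.comm q hq r hr
  ρ c := k * h.ρ c * k⁻¹
  ρ_mul c d hc hd := by rw [h.ρ_mul c d hc hd, ← conj_mul]
  ρ_π c hc q hq := by
    rw [h.ρ_π c hc q hq, ← mul_app (((k * h.ρ c * k⁻¹ : O phi)) : V6 ≃ₗ[ZMod 2] V6),
      ← Subgroup.coe_mul, inv_mul_cancel_right, Subgroup.coe_mul, mul_app]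
  ρ_ker c hc := by rw [conj_eq_one_iff]; exact h.ρ_ker c hc
  ρ_mem c hc := Subgroup.Normal.conj_mem inferInstance _ (h.ρ_mem c hc) k
  ρ_surj j hj := by
    obtain ⟨c, hc, e⟩ := h.ρ_surj (k⁻¹ * j * k⁻¹⁻¹) (Subgroup.Normal.conj_mem inferInstance _ hj k⁻¹)
    exact ⟨c, hc, by rw [e]; group⟩
  nwc := h.nwc

/-- the coordinates can be chosen so that `y` rotates the first plane -/
theorem exists_std (h : Setup z Q) {y : G} (hy : Three z y) {D : Subgroup G} (hDQ : D ≤ Q)
    (hcard : Nat.card D = 8) (hna : ¬ IsMulCommutative D)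
    (hin : ∀ q ∈ Q, q * y * q⁻¹ * y⁻¹ ∈ D)
    (hout : ∀ d ∈ D, ∃ v, h.π d = v + (h.ρ y : V6 ≃ₗ[ZMod 2] V6) v) :
    ∃ h' : Setup z Q, h'.ρ y = g0 := by
  classical
  set g := h.ρ y with hg
  have hg3 : ∀ u : V6, (g : V6 ≃ₗ[ZMod 2] V6)
      ((g : V6 ≃ₗ[ZMod 2] V6) ((g : V6 ≃ₗ[ZMod 2] V6) u)) = u := fun u => by
    rw [← mul_app (g : V6 ≃ₗ[ZMod 2] V6) (g : V6 ≃ₗ[ZMod 2] V6), ← mul_app, ← Subgroup.coe_mul,
      ← Subgroup.coe_mul, hg, mul_assoc, rho_three h hy]
    rfl
  -- a pair of non-commuting elements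
  obtain ⟨a', ha', b', hb', hne⟩ : ∃ a ∈ D, ∃ b ∈ D, a * b ≠ b * a := by
    by_contra hall
    push Not at hall
    exact hna ⟨⟨fun a b => Subtype.ext (hall a a.2 b b.2)⟩⟩
  have hzD : z ∈ D := by
    have hc := h.comm b' (hDQ hb') a' (hDQ ha')
    rcases two_cases' (polar (⇑phi) (h.π b') (h.π a')) with e | e
    · exact absurd (hc.trans (by rw [e]; simp [zp])) hne
    · rw [e] at hc
      have : z = (b' * a')⁻¹ * (a' * b') := by rw [hc]; simp [zp, ← mul_assoc]
      rw [this]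
      exact mul_mem (inv_mem (mul_mem hb' ha')) (mul_mem ha' hb')
  have hpab : fb (h.π a') (h.π b') = 1 := by
    rcases two_cases' (fb (h.π a') (h.π b')) with e | e
    · exact absurd ((h.commute_iff (hDQ ha') (hDQ hb')).2 (by rw [polar_fb, e])) hne
    · exact e
  have hin' : ∀ v, ∃ d ∈ D, h.π d = v + (g : V6 ≃ₗ[ZMod 2] V6) v := by
    intro v
    obtain ⟨q, hq, rfl⟩ := h.π_surj v
    refine ⟨_, hin q hq, ?_⟩
    rw [show q * y * q⁻¹ * y⁻¹ = q * (y * q⁻¹ * y⁻¹) by group,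
      h.π_mul _ hq _ (h.norm y hy.xz _ (inv_mem hq)), h.ρ_π y hy.xz _ (inv_mem hq), h.π_inv hq]
  have fb0 : ∀ v : V6, fb 0 v = 0 := fun v => by rw [← polar_fb, polar_zero_left]
  -- the image of `1 + g` has four elements
  have four : ∀ w, (∃ d ∈ D, h.π d = w) → w = 0 ∨ w = h.π a' ∨ w = h.π b' ∨ w = h.π a' + h.π b' := by
    rintro w ⟨d, hd, rfl⟩
    by_contra hcon
    push Not at hcon
    obtain ⟨c0, c1, c2, c3⟩ := hcon
    let r : Fin 5 → G := ![1, a', b', a' * b', d]
    have hr : ∀ i, r i ∈ D := by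
      intro i; fin_cases i
      exacts [one_mem D, ha', hb', mul_mem ha' hb', hd]
    have na : h.π a' ≠ 0 := fun e => by rw [e, fb0] at hpab; exact zero_ne_one hpab
    have nb : h.π b' ≠ 0 := fun e => by rw [e, fb_comm, fb0] at hpab; exact zero_ne_one hpab
    have nab : h.π a' ≠ h.π b' := fun e => by rw [e, fb_self] at hpab; exact zero_ne_one hpab
    have hπr : Function.Injective (fun i => h.π (r i)) := by
      intro i j e
      fin_cases i <;> fin_cases j <;> first
        | rfl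
        | (exfalso
           simp only [r, h.π_one, h.π_mul _ (hDQ ha') _ (hDQ hb'), Fin.isValue,
             Fin.zero_eta, Fin.mk_one, Fin.reduceFinMk, Matrix.cons_val_zero, Matrix.cons_val_one,
             Matrix.cons_val] at e
           first
             | exact na e | exact na e.symm | exact nb e | exact nb e.symm | exact nab e
             | exact nab e.symm | exact c0 e | exact c0 e.symm | exact c1 e | exact c1 e.symm
             | exact c2 e | exact c2 e.symm | exact c3 e | exact c3 e.symm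
             | exact nab (eq_of_add_eq_zero' e) | exact nab (eq_of_add_eq_zero' e.symm)
             | exact nb (add_eq_left.1 e) | exact nb (add_eq_left.1 e.symm)
             | exact na (add_eq_right.1 e) | exact na (add_eq_right.1 e.symm))
    let f : Fin 5 × ZMod 2 → D := fun p => ⟨r p.1 * zp z p.2, mul_mem (hr _) (by
      unfold zp; split_ifs; exacts [one_mem D, hzD])⟩
    have hf : Function.Injective f := by
      rintro ⟨i, e⟩ ⟨j, e'⟩ he
      have h1 : r i * zp z e = r j * zp z e' := congrArg Subtype.val he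
      have hz' : ∀ e, zp z e ∈ Q ∧ h.π (zp z e) = 0 := fun e => by
        unfold zp; split_ifs
        exacts [⟨one_mem Q, h.π_one⟩, ⟨h.hzQ, h.π_z⟩]
      have hij := congrArg h.π h1
      rw [h.π_mul _ (hDQ (hr i)) _ (hz' e).1, h.π_mul _ (hDQ (hr j)) _ (hz' e').1, (hz' e).2,
        (hz' e').2, add_zero, add_zero] at hij
      obtain rfl := hπr hij
      exact Prod.ext rfl (zp_inj h.z_ne (mul_left_cancel h1))
    have := Nat.card_le_card_of_injective f hf
    rw [hcard, Nat.card_prod, Nat.card_fin, Nat.card_zmod] at this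
    omega
  obtain ⟨v, hv⟩ := hout a' ha'
  set a := h.π a' with ha
  set b := (g : V6 ≃ₗ[ZMod 2] V6) a with hb
  have a0 : a ≠ 0 := fun e => by rw [e, fb0] at hpab; exact zero_ne_one hpab
  have ba : b ≠ a := by
    intro e
    rw [hb, hv, map_add] at e
    have e2 : (g : V6 ≃ₗ[ZMod 2] V6) ((g : V6 ≃ₗ[ZMod 2] V6) v) = v :=
      add_left_cancel (e.trans (add_comm _ _))
    have e3 : (g : V6 ≃ₗ[ZMod 2] V6) v = v := by
      have := congrArg (g : V6 ≃ₗ[ZMod 2] V6) e2
      rw [hg3] at this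
      exact this.symm
    exact a0 (by rw [hv, e3, add_self'])
  have b0 : b ≠ 0 := fun e => a0 ((LinearEquiv.map_eq_zero_iff _).1 e)
  have ab : fb a b = 1 := by
    obtain ⟨d, hd, e⟩ := hin' ((g : V6 ≃ₗ[ZMod 2] V6) v)
    rw [← map_add, ← hv, ← hb] at e
    rcases four b ⟨d, hd, e⟩ with e | e | e | e
    · exact absurd e b0
    · exact absurd e ba
    · rw [e, hpab]
    · rw [e, fb_comm, fb_add_left, fb_comm (h.π b'), hpab, fb_self]; rfl
  have four' : ∀ u, u + (g : V6 ≃ₗ[ZMod 2] V6) u = 0 ∨ u + (g : V6 ≃ₗ[ZMod 2] V6) u = a ∨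
      u + (g : V6 ≃ₗ[ZMod 2] V6) u = b ∨ u + (g : V6 ≃ₗ[ZMod 2] V6) u = a + b := by
    intro u
    obtain ⟨d', hd', e'⟩ := hin' ((g : V6 ≃ₗ[ZMod 2] V6) v)
    rw [← map_add, ← hv, ← hb] at e'
    obtain ⟨d, hd, e⟩ := hin' u
    have hb'' : h.π b' = b ∨ h.π b' = a + b := by
      rcases four b ⟨d', hd', e'⟩ with e1 | e1 | e1 | e1
      · exact absurd e1 b0
      · exact absurd e1 ba
      · exact Or.inl e1.symm
      · right; rw [e1, ← add_assoc, add_self', zero_add]
    rcases hb'' with p | p <;> rcases four _ ⟨d, hd, e⟩ with e1 | e1 | e1 | e1 <;>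
      rw [e1] <;> simp [p, ← add_assoc, add_self']
  have gb : (g : V6 ≃ₗ[ZMod 2] V6) b = a + b := by
    have hgb : (g : V6 ≃ₗ[ZMod 2] V6) v + (g : V6 ≃ₗ[ZMod 2] V6) ((g : V6 ≃ₗ[ZMod 2] V6) v) = b := by
      rw [hb, hv, map_add]
    rcases four' ((g : V6 ≃ₗ[ZMod 2] V6) ((g : V6 ≃ₗ[ZMod 2] V6) v)) with e | e | e | e <;>
      rw [← map_add, hgb] at e
    · exact absurd ((LinearEquiv.map_eq_zero_iff _).1 e) b0
    · exfalso
      have := congrArg (g : V6 ≃ₗ[ZMod 2] V6) e
      rw [hb, hg3] at this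
      exact ba this.symm
    · exact absurd ((g : V6 ≃ₗ[ZMod 2] V6).injective (e.trans hb)) ba
    · exact e
  have qa : fq a = 1 := by
    have e1 : fq b = fq a := fq_app g a
    have e2 : fq (a + b) = fq a := by rw [← gb, fq_app, e1]
    have e3 : fq (a + b) = fq a + fq b + fb a b := by
      rw [← phi_fq, ← phi_fq, ← phi_fq, ← polar_fb, map_add_polar]
    rw [e2, e1, ab, CharTwo.add_self_eq_zero, zero_add] at e3
    exact e3
  have qb : fq b = 1 := by rw [hb, fq_app, qa]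
  have hperp : ∀ u, fb a u = 0 → fb b u = 0 → (g : V6 ≃ₗ[ZMod 2] V6) u = u := by
    intro u ua ub
    have h1 : fb (u + (g : V6 ≃ₗ[ZMod 2] V6) u) a = 0 := by
      rw [fb_add_left, fb_comm u, ua, zero_add]
      calc fb ((g : V6 ≃ₗ[ZMod 2] V6) u) a
          = fb ((g : V6 ≃ₗ[ZMod 2] V6) u) ((g : V6 ≃ₗ[ZMod 2] V6) (a + b)) := by
            rw [← gb, hb, hg3]
        _ = fb u (a + b) := fb_app g _ _
        _ = 0 := by rw [fb_comm, fb_add_left, ua, ub]; rfl
    have h2 : fb (u + (g : V6 ≃ₗ[ZMod 2] V6) u) b = 0 := by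
      rw [fb_add_left, fb_comm u, ub, hb, fb_app, fb_comm u, ua]; rfl
    rcases four' u with e | e | e | e
    · exact (eq_of_add_eq_zero' e).symm
    · rw [e, ab] at h2; exact absurd h2 one_ne_zero
    · rw [e, fb_comm, ab] at h1; exact absurd h1 one_ne_zero
    · rw [e, fb_add_left, fb_self, fb_comm b, ab] at h1; exact absurd h1 one_ne_zero
  have gspec : ∀ u, (g : V6 ≃ₗ[ZMod 2] V6) u = u + fb b u • (a + b) + fb a u • a := by
    intro u
    have h2 : ∀ x : V6, x + x = 0 := add_self'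
    have h2' : ∀ x y : V6, x + (x + y) = y := fun x y => by rw [← add_assoc, h2, zero_add]
    set u' := u + fb b u • a + fb a u • b with hu'
    have pa : fb a u' = 0 := by
      rw [fb_comm, hu', fb_add_left, fb_add_left, fb_smul_left, fb_smul_left, fb_self, fb_comm b a,
        ab, fb_comm u a, mul_zero, add_zero, mul_one, CharTwo.add_self_eq_zero]
    have pb : fb b u' = 0 := by
      rw [fb_comm, hu', fb_add_left, fb_add_left, fb_smul_left, fb_smul_left, fb_self, ab,
        fb_comm u b, mul_one, mul_zero, add_zero, CharTwo.add_self_eq_zero]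
    have hu : u = u' + fb b u • a + fb a u • b := by
      rw [hu']
      rcases two_cases' (fb a u) with p | p <;> rcases two_cases' (fb b u) with q | q <;>
        simp only [p, q, one_smul, zero_smul, add_zero, add_assoc]
      · rw [h2, add_zero]
      · rw [h2, add_zero]
      · rw [add_comm b (a + b), add_assoc a b b, h2, add_zero, h2, add_zero]
    have hg' := hperp u' pa pb
    conv_lhs => rw [hu]
    rw [map_add, map_add, map_smul, map_smul, hg', ← hb, gb, hu']
    rcases two_cases' (fb a u) with p | p <;> rcases two_cases' (fb b u) with q | q <;>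
      simp only [p, q, one_smul, zero_smul, add_zero, add_assoc]
    · rw [add_comm b (a + b), add_assoc, h2, add_zero, add_comm]
    rw [add_comm b a, h2']
  obtain ⟨k, ka, kb⟩ := exists_move qa qb ab
  refine ⟨twist h k, ?_⟩
  show k * h.ρ y * k⁻¹ = g0
  rw [mul_inv_eq_iff_eq_mul, ← hg]
  refine O.ext_app fun u => ?_
  rw [Subgroup.coe_mul, mul_app, Subgroup.coe_mul, mul_app, g0_app, g0_spec, gspec, map_add,
    map_add, map_smul, map_smul, map_add, ka, kb,
    show fb U0 ((k : V6 ≃ₗ[ZMod 2] V6) u) = fb b u by rw [← kb, fb_app],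
    show fb A0 ((k : V6 ≃ₗ[ZMod 2] V6) u) = fb a u by rw [← ka, fb_app]]

end Cfsg.Agent.H66.SuzY
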