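import Cfsg.Agent.H66.SuzY.Main
import Cfsg.Agent.H66.SuzY.Std
import Cfsg.Agent.H73.Suz.Setup

/-!
From the statement to the standard configuration.
-/

set_option autoImplicit false
set_option linter.unusedSectionVars false
set_option linter.style.haveILetI false
set_option synthInstance.maxSize 4000
set_option synthInstance.maxHeartbeats 400000

namespace Cfsg.Agent.H66.SuzY

open QuadraticMap Cfsg.Agent.Orthogonal Cfsg.Agent.H73.Suz Cfsg.Agent.H92.ExtraForm
open scoped commutatorElement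

variable {G : Type*} [Group G] [Finite G]

theorem exists_config (z : G) (hz : orderOf z = 2)
    (Q : Subgroup (Subgroup.centralizer ({z} : Set G))) [Q.Normal]
    (hF : Cfsg.generalizedFittingSubgroup (Subgroup.centralizer ({z} : Set G)) = Q)
    (hQ : Cfsg.IsExtraspecial 2 Q) (hcard : Nat.card Q = 2 ^ 7)
    (e : (Subgroup.centralizer ({z} : Set G)) ⧸ Q ≃*
      Cfsg.Omega (ZMod 2) (Cfsg.quadFormMinus 2 (ZMod 2) 1 1))
    (hnwc : ∃ g : G, (∃ hq : g * z * g⁻¹ ∈ Subgroup.centralizer ({z} : Set G),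
      (⟨g * z * g⁻¹, hq⟩ : Subgroup.centralizer ({z} : Set G)) ∈ Q) ∧ g * z * g⁻¹ ≠ z)
    (Y : Subgroup (Subgroup.centralizer ({z} : Set G))) (hY : Nat.card Y = 3)
    (hQY : Nat.card ↥⁅Q, Y⁆ = 8) (hQYna : ¬ IsMulCommutative ↥⁅Q, Y⁆) :
    ∃ y : G, Y.map (Subgroup.centralizer ({z} : Set G)).subtype = Subgroup.zpowers y ∧
      ∃ (h : Setup z (Q.map (Subgroup.centralizer ({z} : Set G)).subtype)),
      ∃ t1 t2 i1 i2, Cfg h y t1 t2 i1 i2 ∧
        Nat.card (Subgroup.centralizer ({z} : Set G)) = 128 * 25920 := by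
  obtain ⟨h⟩ := setup_of hz Q hF hQ hcard e hnwc
  have hcz : Nat.card (Subgroup.centralizer ({z} : Set G)) = 128 * 25920 := by
    rw [Subgroup.card_eq_card_quotient_mul_card_subgroup Q, Nat.card_congr e.toEquiv,
      card_omega_six, hcard, mul_comm]
    rfl
  haveI : Fact (Nat.Prime 3) := ⟨Nat.prime_three⟩
  obtain ⟨⟨yC, hyY⟩, hy1⟩ : ∃ a : Y, a ≠ 1 := by
    haveI : Nontrivial Y := Finite.one_lt_card_iff_nontrivial.1 (by rw [hY]; norm_num)
    exact exists_ne 1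
  have hY' : Y = Subgroup.zpowers yC := by
    have h1 : (Subgroup.zpowers (⟨yC, hyY⟩ : Y)) = ⊤ := zpowers_eq_top_of_prime_card hY hy1
    have h2 := congrArg (Subgroup.map Y.subtype) h1
    rw [MonoidHom.map_zpowers, ← MonoidHom.range_eq_map, Subgroup.range_subtype] at h2
    exact h2.symm
  have hy3 : yC * (yC * yC) = 1 := by
    have := pow_card_eq_one' (G := Y) (x := ⟨yC, hyY⟩)
    rw [hY] at this
    have h' := congrArg Subtype.val this
    simpa [pow_succ, mul_assoc] using h'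
  have hy : Three z (yC : G) :=
    ⟨Subgroup.mem_centralizer_singleton_iff.1 yC.2, congrArg Subtype.val hy3⟩
  set Qg := Q.map (Subgroup.centralizer ({z} : Set G)).subtype with hQg
  set D := (⁅Q, Y⁆).map (Subgroup.centralizer ({z} : Set G)).subtype with hD
  have hDe : D = ⁅Qg, Subgroup.zpowers (yC : G)⁆ := by
    rw [hD, Subgroup.map_commutator, ← hQg, hY', MonoidHom.map_zpowers]
    rfl
  let eD := (⁅Q, Y⁆).equivMapOfInjective _ (Subgroup.centralizer ({z} : Set G)).subtype_injective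
  have cD : Nat.card D = 8 := by rw [← hQY]; exact (Nat.card_congr eD.toEquiv).symm
  have naD : ¬ IsMulCommutative D := by
    intro hc
    exact hQYna ⟨⟨fun a b => eD.injective (by rw [map_mul, map_mul]; exact hc.is_comm.comm _ _)⟩⟩
  let S : Subgroup G :=
    { carrier := {x | x ∈ Qg ∧ ∃ v, h.π x = v + (h.ρ (yC : G) : V6 ≃ₗ[ZMod 2] V6) v}
      one_mem' := ⟨one_mem _, 0, by rw [h.π_one, map_zero, add_zero]⟩
      mul_mem' := by
        rintro a b ⟨ha, v, hv⟩ ⟨hb, v', hv'⟩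
        exact ⟨mul_mem ha hb, v + v', by rw [h.π_mul _ ha _ hb, hv, hv', map_add]; abel⟩
      inv_mem' := by
        rintro a ⟨ha, v, hv⟩
        exact ⟨inv_mem ha, v, by rw [h.π_inv ha, hv]⟩ }
  have hDS : D ≤ S := by
    rw [hDe, Subgroup.commutator_le]
    intro q hq p hp
    obtain ⟨n, rfl⟩ := (mem_powers_iff_mem_zpowers.2 hp : p ∈ Submonoid.powers (yC : G))
    have hn : (yC : G) ^ n * z = z * (yC : G) ^ n := ((show Commute (yC : G) z from hy.xz).pow_left n).eq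
    have hm := h.norm _ hn _ (inv_mem hq)
    show ⁅q, (yC : G) ^ n⁆ ∈ Qg ∧ _
    rw [commutatorElement_def, show q * (yC : G) ^ n * q⁻¹ * ((yC : G) ^ n)⁻¹ =
      q * ((yC : G) ^ n * q⁻¹ * ((yC : G) ^ n)⁻¹) by group]
    refine ⟨mul_mem hq hm, ?_⟩
    rw [h.π_mul _ hq _ hm, h.ρ_π _ hn _ (inv_mem hq), h.π_inv hq, h.ρ_pow hy.xz]
    generalize h.π q = v
    clear hm hn hp
    induction n with
    | zero =>
      refine ⟨0, ?_⟩
      rw [pow_zero, OneMemClass.coe_one, one_app, map_zero, add_zero, add_self']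
    | succ n ih =>
      obtain ⟨u, hu⟩ := ih
      refine ⟨u + ((h.ρ (yC : G) ^ n : O phi) : V6 ≃ₗ[ZMod 2] V6) v, ?_⟩
      rw [pow_succ', Subgroup.coe_mul, mul_app, map_add]
      generalize ((h.ρ (yC : G) ^ n : O phi) : V6 ≃ₗ[ZMod 2] V6) v = a at hu ⊢
      calc v + (h.ρ (yC : G) : V6 ≃ₗ[ZMod 2] V6) a
          = (v + a) + (a + (h.ρ (yC : G) : V6 ≃ₗ[ZMod 2] V6) a) := by
            rw [add_assoc v a, ← add_assoc a a, add_self', zero_add]
        _ = _ := by rw [hu]; abel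
  obtain ⟨h', hρ⟩ := exists_std h hy (D := D) (fun x hx => (hDS hx).1) cD naD
    (fun q hq => by
      rw [hDe, ← commutatorElement_def]
      exact Subgroup.commutator_mem_commutator hq (Subgroup.mem_zpowers _))
    (fun d hd => (hDS hd).2)
  obtain ⟨t1, t2, i1, i2, C⟩ := exists_cfg h' hy hρ
  refine ⟨(yC : G), ?_, h', t1, t2, i1, i2, C, hcz⟩
  rw [hY', MonoidHom.map_zpowers]
  rfl

theorem suz_type (z : G) (hz : orderOf z = 2)
    (Q : Subgroup (Subgroup.centralizer ({z} : Set G))) [Q.Normal]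
    (hF : Cfsg.generalizedFittingSubgroup (Subgroup.centralizer ({z} : Set G)) = Q)
    (hQ : Cfsg.IsExtraspecial 2 Q) (hcard : Nat.card Q = 2 ^ 7)
    (e : (Subgroup.centralizer ({z} : Set G)) ⧸ Q ≃*
      Cfsg.Omega (ZMod 2) (Cfsg.quadFormMinus 2 (ZMod 2) 1 1))
    (hnwc : ∃ g : G, (∃ hq : g * z * g⁻¹ ∈ Subgroup.centralizer ({z} : Set G),
      (⟨g * z * g⁻¹, hq⟩ : Subgroup.centralizer ({z} : Set G)) ∈ Q) ∧ g * z * g⁻¹ ≠ z)
    (Y : Subgroup (Subgroup.centralizer ({z} : Set G))) (hY : Nat.card Y = 3)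
    (hQY : Nat.card ↥⁅Q, Y⁆ = 8) (hQYna : ¬ IsMulCommutative ↥⁅Q, Y⁆) {P : Type*} [Group P]
    (φ : Cfsg.Agent.H66.UFour.Model.grp ≃* P) (Yg : Subgroup G)
    (hYg : Yg = Y.map (Subgroup.centralizer ({z} : Set G)).subtype)
    [(Yg.subgroupOf (Subgroup.centralizer (Yg : Set G))).Normal] :
    Cfsg.IsQuasisimple ↥(Subgroup.centralizer (Yg : Set G)) ∧
      Nonempty (↥(Subgroup.centralizer (Yg : Set G)) ⧸
        Yg.subgroupOf (Subgroup.centralizer (Yg : Set G)) ≃* P) ∧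
      (Subgroup.centralizer (Yg : Set G)).relIndex (Subgroup.normalizer (Yg : Set G)) = 2 := by
  obtain ⟨y, hy, h, t1, t2, i1, i2, C, hcz⟩ := exists_config z hz Q hF hQ hcard e hnwc Y hY hQY hQYna
  obtain rfl : Yg = Subgroup.zpowers y := hYg.trans hy
  obtain ⟨h1, ⟨e1⟩, h3⟩ := C.main hcz
  exact ⟨h1, ⟨e1.trans φ⟩, h3⟩

end Cfsg.Agent.H66.SuzY
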