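import Cfsg.Agent.H66.SuzY.Cfg
import Cfsg.Agent.H73.Suz.Core
import Cfsg.Agent.H66.UFour.Ident

/-!
Fusion of `z` inside the centraliser of the rotation.
-/

set_option autoImplicit false
set_option linter.unusedSectionVars false
set_option synthInstance.maxSize 4000
set_option synthInstance.maxHeartbeats 400000
set_option maxRecDepth 20000
set_option linter.style.haveILetI false

namespace Cfsg.Agent.H66.SuzY

open QuadraticMap Cfsg.Agent.Orthogonal Cfsg.Agent.H73.Suz Cfsg.Agent.H92.ExtraForm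

theorem sing_count : Nat.card {v : V6 // v ≠ 0 ∧ fq v = 0} = 27 ∧ rotV A0 U0 v0 = v0 ∧
    rotV A0 U0 f0 = f0 := by
  refine ⟨?_, ?_, ?_⟩
  · rw [Nat.card_eq_fintype_card]; decide +kernel
  · decide +kernel
  · decide +kernel

variable {G : Type*} [Group G] [Finite G] {z : G} {Q : Subgroup G} {h : Setup z Q}
variable {y t1 t2 i1 i2 : G}

theorem card_invol (h : Setup z Q) :
    Nat.card {x : G // x ∈ Q ∧ x * x = 1 ∧ x ≠ 1 ∧ x ≠ z} = 54 := by
  classical
  choose r hr hπr using h.π_surj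
  have hz' : ∀ e, zp z e ∈ Q ∧ h.π (zp z e) = 0 := fun e => by
    unfold zp; split_ifs
    exacts [⟨one_mem Q, h.π_one⟩, ⟨h.hzQ, h.π_z⟩]
  let f : {v : V6 // v ≠ 0 ∧ fq v = 0} × ZMod 2 → {x : G // x ∈ Q ∧ x * x = 1 ∧ x ≠ 1 ∧ x ≠ z} :=
    fun p => ⟨r p.1.1 * zp z p.2, by
      have hm := mul_mem (hr p.1.1) (hz' p.2).1
      have hπ : h.π (r p.1.1 * zp z p.2) = p.1.1 := by
        rw [h.π_mul _ (hr _) _ (hz' _).1, (hz' _).2, add_zero, hπr]
      refine ⟨hm, (h.sq_one_iff hm).2 (by rw [hπ, phi_fq, p.1.2.2]), fun e => ?_, fun e => ?_⟩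
      · rw [e, h.π_one] at hπ; exact p.1.2.1 hπ.symm
      · rw [e, h.π_z] at hπ; exact p.1.2.1 hπ.symm⟩
  have hf : Function.Bijective f := by
    refine ⟨?_, ?_⟩
    · rintro ⟨⟨v, hv⟩, e⟩ ⟨⟨v', hv'⟩, e'⟩ he
      have h1 : r v * zp z e = r v' * zp z e' := congrArg Subtype.val he
      have h2 := congrArg h.π h1
      rw [h.π_mul _ (hr v) _ (hz' e).1, h.π_mul _ (hr v') _ (hz' e').1, (hz' e).2, (hz' e').2,
        hπr, hπr, add_zero, add_zero] at h2
      subst h2
      exact Prod.ext rfl (zp_inj h.z_ne (mul_left_cancel h1))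
    · rintro ⟨q, hq, hqq, hq1, hqz⟩
      have hv : h.π q ≠ 0 ∧ fq (h.π q) = 0 := by
        refine ⟨fun e => ?_, by rw [← phi_fq]; exact (h.sq_one_iff hq).1 hqq⟩
        rcases (h.π_zero q hq).1 e with d | d
        · exact hq1 d
        · exact hqz d
      rcases h.π_eq (hr (h.π q)) hq (hπr _) with d | d
      · exact ⟨(⟨h.π q, hv⟩, 0), Subtype.ext (by show r (h.π q) * zp z 0 = q; simp only [zp]; simpa using d.symm)⟩
      · exact ⟨(⟨h.π q, hv⟩, 1), Subtype.ext (by show r (h.π q) * zp z 1 = q; simp only [zp]; simpa using d.symm)⟩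
  rw [← Nat.card_congr (Equiv.ofBijective f hf), Nat.card_prod, sing_count.1, Nat.card_zmod]

theorem card_M (h : Setup z Q)
    (hcz : Nat.card (Subgroup.centralizer ({z} : Set G)) = 128 * 25920) {s : G} (hs : s ∈ Q)
    (hπs : h.π s = v0) :
    Nat.card ((Subgroup.centralizer ({s} : Set G)).subgroupOf (Subgroup.centralizer ({z} : Set G))) =
      61440 := by
  set I : Set G := {x | x ∈ Q ∧ x * x = 1 ∧ x ≠ 1 ∧ x ≠ z} with hI
  have hss : s * s = 1 := (h.sq_one_iff hs).2 (by rw [hπs, phi_v0])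
  have hs1 : s ≠ 1 := fun e => v0_ne (by rw [← hπs, e, h.π_one])
  have hsz : s ≠ z := fun e => v0_ne (by rw [← hπs, e, h.π_z])
  have h1 : ∀ c ∈ Subgroup.centralizer ({z} : Set G), c * s * c⁻¹ ∈ I := by
    intro c hc
    have hc' := Subgroup.mem_centralizer_singleton_iff.1 hc
    refine ⟨h.norm c hc' s hs, by rw [conj_mul, hss, mul_one, mul_inv_cancel],
      fun e => hs1 (conj_eq_one_iff.1 e), fun e => hsz ?_⟩
    calc s = c⁻¹ * (c * s * c⁻¹) * c := by group
      _ = z := by rw [e, mul_assoc, ← hc', inv_mul_cancel_left]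
  have h2 : ∀ x ∈ I, ∃ c ∈ Subgroup.centralizer ({z} : Set G), c * s * c⁻¹ = x := by
    rintro x ⟨hx, hxx, hx1, hxz⟩
    obtain ⟨c, hc, e⟩ := h.exists_conj_s hs hπs hx hxx hx1 hxz
    exact ⟨c⁻¹, Subgroup.mem_centralizer_singleton_iff.2 (h.inv_comm hc), by rw [← e]; group⟩
  have hidx := UFour.index_orbit (Subgroup.centralizer ({z} : Set G)) I h1 h2
  have hcard := ((Subgroup.centralizer ({s} : Set G)).subgroupOf
    (Subgroup.centralizer ({z} : Set G))).card_mul_index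
  rw [hidx, hcz, show Nat.card I = 54 from card_invol h] at hcard
  omega

namespace Cfg

variable (C : Cfg h y t1 t2 i1 i2)
include C

/-- an element centralising `z` and `s` and inverting `y` -/
theorem exists_inverter {s : G} (hs : s ∈ Q) (hπs : h.π s = v0) :
    ∃ n, n * z = z * n ∧ n * s = s * n ∧ n * (y * y) * n⁻¹ = y := by
  have hy2 : Three z (y * y) := ⟨h.mul_comm' C.hy.xz C.hy.xz, by
    calc y * y * (y * y * (y * y)) = y * (y * y) * (y * (y * y)) := by group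
      _ = 1 := by rw [C.hy.cube, one_mul]⟩
  obtain ⟨c, hc, ρc, hcy⟩ := lift_one h nO_mem hy2 C.hy (by
    rw [h.ρ_mul _ _ C.hy.xz C.hy.xz, C.ρy, nO_g0])
  have hπc : h.π s = h.π (c * s * c⁻¹) := by rw [h.ρ_π c hc s hs, hπs, ρc, nO_v0]
  rcases h.π_eq hs (h.norm c hc s hs) hπc with e | e
  · exact ⟨c, hc, mul_inv_eq_iff_eq_mul.1 e, hcy⟩
  · obtain ⟨r, hr, hπr, hrs⟩ := h.exists_flip hs hπs
    have hry : Commute r y :=
      (comm_of_fixed h C.hy hr (by rw [C.ρy, hπr, g0_app, sing_count.2.2])).symm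
    refine ⟨r * c, h.mul_comm' (h.le r hr) hc, mul_inv_eq_iff_eq_mul.1 ?_, ?_⟩
    · calc r * c * s * (r * c)⁻¹ = r * (c * s * c⁻¹) * r⁻¹ := by group
        _ = r * s * r⁻¹ * (r * z * r⁻¹) := by rw [e]; group
        _ = s := by rw [hrs, h.le r hr, mul_inv_cancel_right, mul_assoc, h.zz, mul_one]
    · calc r * c * (y * y) * (r * c)⁻¹ = r * (c * (y * y) * c⁻¹) * r⁻¹ := by group
        _ = y := by rw [hcy, hry.eq, mul_inv_cancel_right]

theorem comm_s {s : G} (hs : s ∈ Q) (hπs : h.π s = v0) : y * s = s * y :=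
  comm_of_fixed h C.hy hs (by rw [C.ρy, hπs, g0_app, sing_count.2.1])

/-- `z` is conjugate to `s` in the centraliser of `y` -/
theorem exists_fuse (hcz : Nat.card (Subgroup.centralizer ({z} : Set G)) = 128 * 25920) :
    ∃ g s, g * y = y * g ∧ g * z * g⁻¹ = s ∧ s ∈ Q ∧ s * y = y * s ∧ s ≠ z := by
  classical
  obtain ⟨s, w, P⟩ := exists_setup_pair h
  set Cz := Subgroup.centralizer ({z} : Set G) with hCz
  set M := (Subgroup.centralizer ({s} : Set G)).subgroupOf Cz with hM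
  have cM := card_M h hcz P.hs P.hπ
  have hsy := C.comm_s P.hs P.hπ
  set x := w * y * w⁻¹ with hx
  have hxz : x * z = z * x := by
    rw [hx, ← P.hw2]
    calc w * y * w⁻¹ * (w * s * w⁻¹) = w * (y * s) * w⁻¹ := by group
      _ = _ := by rw [hsy]; group
  have hxs : x * s = s * x := by
    rw [hx, ← P.hw1]
    calc w * y * w⁻¹ * (w * z * w⁻¹) = w * (y * z) * w⁻¹ := by group
      _ = _ := by rw [C.hy.xz]; group
  have hy3 : y ^ 3 = 1 := by rw [pow_succ', pow_two, C.hy.cube]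
  have hy1 : y ≠ 1 := fun e => by
    have h1 := C.ρy
    rw [e, h.ρ_one] at h1
    have h2 := congrArg (fun g : O phi => (g : V6 ≃ₗ[ZMod 2] V6) A0) h1
    simp only [g0_app, OneMemClass.coe_one, one_app] at h2
    exact absurd h2 (by decide +kernel)
  have oy : orderOf y = 3 := orderOf_eq_prime hy3 hy1
  let yM : M := ⟨⟨y, Subgroup.mem_centralizer_singleton_iff.2 C.hy.xz⟩,
    Subgroup.mem_centralizer_singleton_iff.2 hsy⟩
  let xM : M := ⟨⟨x, Subgroup.mem_centralizer_singleton_iff.2 hxz⟩,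
    Subgroup.mem_centralizer_singleton_iff.2 hxs⟩
  let ι : M →* G := Cz.subtype.comp M.subtype
  have hι : Function.Injective ι := Cz.subtype_injective.comp M.subtype_injective
  have oyM : orderOf yM = 3 := by
    rw [← orderOf_injective ι hι]; exact oy
  have oxM : orderOf xM = 3 := by
    rw [← orderOf_injective ι hι]
    show orderOf x = 3
    rw [hx, H26.orderOf_conj_eq, oy]
  haveI : Fact (Nat.Prime 3) := ⟨Nat.prime_three⟩
  have hfac : Nat.factorization 61440 3 = 1 := by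
    have hp : Nat.Prime 3 := Nat.prime_three
    apply le_antisymm
    · by_contra hh
      have := (hp.pow_dvd_iff_le_factorization (k := 2) (n := 61440) (by norm_num)).2 (by omega)
      norm_num at this
    · exact (hp.pow_dvd_iff_le_factorization (k := 1) (n := 61440) (by norm_num)).1 (by norm_num)
  let P0 : Sylow 3 M := Sylow.ofCard (Subgroup.zpowers yM) (by
    rw [Nat.card_zpowers, oyM, show Nat.card M = 61440 from cM, hfac, pow_one])
  have hp : IsPGroup 3 (Subgroup.zpowers xM) :=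
    IsPGroup.of_card (n := 1) (by rw [Nat.card_zpowers, oxM, pow_one])
  obtain ⟨m, hm⟩ := H39.exists_conj_le_sylow hp P0
  obtain ⟨k, hk⟩ := (mem_powers_iff_mem_zpowers.2
    (hm _ (Subgroup.mem_zpowers _) : _ ∈ Subgroup.zpowers yM) : _ ∈ Submonoid.powers yM)
  have hk' : (ι m) * x * (ι m)⁻¹ = y ^ k := by
    have := congrArg ι hk
    simp only [map_pow, map_mul, map_inv] at this
    exact this.symm
  have hmz : ι m * z = z * ι m := Subgroup.mem_centralizer_singleton_iff.1 m.1.2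
  have hms : ι m * s = s * ι m := Subgroup.mem_centralizer_singleton_iff.1 m.2
  set g := ι m * w with hg
  have hgy : g * y * g⁻¹ = y ^ k := by rw [← hk', hg, hx]; group
  have hgz : g * z * g⁻¹ = s := by
    rw [hg]
    calc ι m * w * z * (ι m * w)⁻¹ = ι m * (w * z * w⁻¹) * (ι m)⁻¹ := by group
      _ = s := by rw [P.hw1, hms, mul_inv_cancel_right]
  rw [pow_eq_pow_mod k hy3] at hgy
  have hlt : k % 3 < 3 := Nat.mod_lt _ (by norm_num)
  obtain he | he | he : k % 3 = 0 ∨ k % 3 = 1 ∨ k % 3 = 2 := by omega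
  · exact absurd (conj_eq_one_iff.1 (by rw [hgy, he, pow_zero])) hy1
  · rw [he, pow_one] at hgy
    exact ⟨g, s, mul_inv_eq_iff_eq_mul.1 hgy, hgz, P.hs, hsy.symm, P.s_ne_z⟩
  · rw [he, pow_two] at hgy
    obtain ⟨n, -, hns, hny⟩ := C.exists_inverter P.hs P.hπ
    refine ⟨n * g, s, mul_inv_eq_iff_eq_mul.1 ?_, ?_, P.hs, hsy.symm, P.s_ne_z⟩
    · calc n * g * y * (n * g)⁻¹ = n * (g * y * g⁻¹) * n⁻¹ := by group
        _ = y := by rw [hgy, hny]
    · calc n * g * z * (n * g)⁻¹ = n * (g * z * g⁻¹) * n⁻¹ := by group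
        _ = s := by rw [hgz, hns, mul_inv_cancel_right]

end Cfg

/-- the intersection of two cores -/
theorem inter_iff (h : Setup z Q) {g x : G} (hg : g * z * g⁻¹ = x) (hx : x ∈ Q) (hxz : x ≠ z)
    {q : G} :
    (q ∈ Q ∧ g⁻¹ * q * g ∈ Q) ↔ ∃ i j, q = tt z x i j := by
  obtain ⟨s, w, P⟩ := exists_setup_pair h
  have hxx : x * x = 1 := by rw [← hg, conj_mul, h.zz, mul_one, mul_inv_cancel]
  have hx1 : x ≠ 1 := fun e => h.z_ne (conj_eq_one_iff.1 (hg.trans e))
  obtain ⟨c, hc, hcx⟩ := h.exists_conj_s P.hs P.hπ hx hxx hx1 hxz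
  set d := w⁻¹ * (c * g) with hd
  have hdz : d * z = z * d := by
    refine mul_inv_eq_iff_eq_mul.1 ?_
    calc d * z * d⁻¹ = w⁻¹ * (c * (g * z * g⁻¹) * c⁻¹) * w := by rw [hd]; group
      _ = z := by rw [hg, hcx, P.w_s]
  have hcinv := h.inv_comm hc
  have cx : c⁻¹ * s * c = x := by rw [← hcx]; group
  have cz : c⁻¹ * z * c = z := by rw [hcinv, inv_mul_cancel_right]
  have key : ∀ {u : G}, g⁻¹ * (c⁻¹ * u * c) * g = d⁻¹ * (w⁻¹ * u * w) * d := fun {u} => by
    rw [hd]; group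
  have ct : ∀ i j, c⁻¹ * tt z s i j * c = tt z x i j := by
    intro i j
    unfold tt zp
    split_ifs
    · rw [mul_one, mul_one, inv_mul_cancel]
    · rw [one_mul, cx, one_mul]
    · rw [mul_one, cz]
    · rw [show c⁻¹ * (z * s) * c = (c⁻¹ * z * c) * (c⁻¹ * s * c) by group, cx, cz]
  constructor
  · rintro ⟨hq, hq'⟩
    have hu : c * q * c⁻¹ ∈ Q := h.norm c hc q hq
    have hu' : w⁻¹ * (c * q * c⁻¹) * w ∈ Q := by
      have e := h.norm d hdz _ hq'
      rwa [show d * (g⁻¹ * q * g) * d⁻¹ = w⁻¹ * (c * q * c⁻¹) * w by rw [hd]; group] at e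
    obtain ⟨i, j, e⟩ := P.inter hu hu'
    exact ⟨i, j, by rw [← ct, ← e]; group⟩
  · rintro ⟨i, j, rfl⟩
    rw [← ct]
    refine ⟨?_, ?_⟩
    · have := h.norm c⁻¹ hcinv _ (P.tt_Q i j)
      rwa [inv_inv] at this
    · rw [key, P.tt_w]
      have := h.norm d⁻¹ (h.inv_comm hdz) _ (P.tt_Q j i)
      rwa [inv_inv] at this

theorem tt_injective (h : Setup z Q) {x : G} (hxz : x ≠ z) (hx1 : x ≠ 1) :
    Function.Injective (fun p : ZMod 2 × ZMod 2 => tt z x p.1 p.2) := by
  have h1 : z * x ≠ 1 := fun e => hxz (by rw [← mul_left_cancel (e.trans h.zz.symm)])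
  rintro ⟨i, j⟩ ⟨i', j'⟩ e
  change tt z x i j = tt z x i' j' at e
  have hcases : ∀ a : ZMod 2, a = 0 ∨ a = 1 := two_cases'
  have hz1 := h.z_ne
  rcases hcases i with rfl | rfl <;> rcases hcases j with rfl | rfl <;>
    rcases hcases i' with rfl | rfl <;> rcases hcases j' with rfl | rfl <;>
    simp [tt, zp] at e ⊢
  all_goals first
    | exact hz1 e | exact hz1 e.symm | exact hx1 e | exact hx1 e.symm | exact hxz e
    | exact hxz e.symm | exact h1 e | exact h1 e.symm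

end Cfsg.Agent.H66.SuzY
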