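import Cfsg.Agent.H66.SuzY.Cfg
import Cfsg.Agent.H66.UFour.Raw

/-!
The centraliser of the rotation inside the involution centraliser.
-/

set_option autoImplicit false
set_option linter.unusedSectionVars false
set_option synthInstance.maxSize 4000
set_option synthInstance.maxHeartbeats 400000
set_option maxRecDepth 20000

namespace Cfsg.Agent.H66.SuzY

open QuadraticMap Cfsg.Agent.Orthogonal Cfsg.Agent.H73.Suz Cfsg.Agent.H92.ExtraForm
open Cfsg.Agent.H66.UFour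

/-- the vector of `i^p j^r` -/
def pv (e f : V6) (p r : ℕ) : V6 := ((p : ZMod 2)) • e + ((r : ZMod 2)) • f

theorem loc_facts :
    rotV A0 U0 E1 = E1 ∧ rotV A0 U0 E2 = E2 ∧ rotV E1 F1 E1 = F1 ∧ rotV E2 F2 E2 = F2 ∧
    rotV A0 U0 F1 = F1 ∧ rotV A0 U0 F2 = F2 ∧ rotV E2 F2 E1 = E1 ∧ rotV E1 F1 E2 = E2 ∧
    rotV E2 F2 F1 = F1 ∧ rotV E1 F1 F2 = F2 ∧ fb E1 E2 = 0 := by
  decide +kernel

theorem pv_facts :
    (∀ p < 4, ∀ r < 2, ∀ p' < 4, ∀ r' < 2, pv E1 F1 p r + pv E2 F2 p' r' = 0 →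
      p % 2 = 0 ∧ r = 0 ∧ p' % 2 = 0 ∧ r' = 0) ∧
    (∀ p < 4, ∀ r < 2, rotV A0 U0 (pv E1 F1 p r) = pv E1 F1 p r ∧
      rotV A0 U0 (pv E2 F2 p r) = pv E2 F2 p r) ∧
    (∀ x ∈ [(0 : V6), E1, F1, E1 + F1], ∃ p < 2, ∃ r < 2, pv E1 F1 p r = x) ∧
    (∀ x ∈ [(0 : V6), E2, F2, E2 + F2], ∃ p < 2, ∃ r < 2, pv E2 F2 p r = x) ∧
    Nat.card {v : V6 // rotV A0 U0 v = v} = 16 := by
  refine ⟨?_, ?_, ?_, ?_, ?_⟩
  · decide +kernel
  · decide +kernel
  · decide +kernel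
  · decide +kernel
  · rw [Nat.card_eq_fintype_card]; decide +kernel

theorem q_codes : (∀ a < 24, isQ a = true → nm (ndec a) = 0) ∧
    (∀ n < 24, nm n = 0 → isQ (nsl n) = true) := by
  decide +kernel

theorem kO_rot {l a b : ℕ} (hl : l < 3) (ha : a < 3) (hb : b < 3) :
    kO (l + 3 * a + 9 * b) = g0 ^ l * (r1 ^ a * r2 ^ b) := by
  have e1 : xl (l + 3 * a + 9 * b) = l := by unfold xl; omega
  have e2 : xa (l + 3 * a + 9 * b) = a := by unfold xa; omega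
  have e3 : xb (l + 3 * a + 9 * b) = b := by unfold xb; omega
  have e4 : xp (l + 3 * a + 9 * b) = 0 := by unfold xp; omega
  have e5 : xq (l + 3 * a + 9 * b) = 0 := by unfold xq; omega
  simp [kO, e1, e2, e3, e4, e5]

theorem Tri.commute_hom {G : Type*} [Group G] {z i t x : G} (D : Tri z i t) (hi : Commute x i)
    (ht : Commute x t) (A : S2) : Commute x (D.hom A) := by
  obtain ⟨p, -, r, -, m, -, e, -, -⟩ := D.hom_form A
  rw [e]
  exact ((hi.pow_right p).mul_right (((ht.mul_right hi).mul_right ht.inv_right).pow_right r)).mul_right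
    (ht.pow_right m)

theorem conj_words {X : Type*} [Group X] {k r s : X} (hrs : Commute r s) {a b a' b' : ℕ}
    (h1 : k * r * k⁻¹ = r ^ a * s ^ b) (h2 : k * s * k⁻¹ = r ^ a' * s ^ b') (m m' : ℕ) :
    k * (r ^ m * s ^ m') * k⁻¹ = r ^ (a * m + a' * m') * s ^ (b * m + b' * m') := by
  have hs : Commute (s ^ (b * m)) (r ^ (a' * m')) := hrs.symm.pow_pow _ _
  rw [← conj_mul, ← conj_pow, ← conj_pow, h1, h2, (hrs.pow_pow a b).mul_pow,
    (hrs.pow_pow a' b').mul_pow, ← pow_mul, ← pow_mul, ← pow_mul, ← pow_mul, pow_add, pow_add]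
  simp only [mul_assoc]
  rw [← mul_assoc (s ^ (b * m)), hs.eq, mul_assoc]

variable {G : Type*} [Group G] [Finite G] {z : G} {Q : Subgroup G} {h : Setup z Q}

theorem π_pow (h : Setup z Q) {q : G} (hq : q ∈ Q) (n : ℕ) :
    h.π (q ^ n) = (n : ZMod 2) • h.π q := by
  induction n with
  | zero => rw [pow_zero, h.π_one, Nat.cast_zero, zero_smul]
  | succ n ih => rw [pow_succ, h.π_mul _ (pow_mem hq n) _ hq, ih, Nat.cast_succ, add_smul, one_smul]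

namespace Cfg

variable {y t1 t2 i1 i2 : G} (C : Cfg h y t1 t2 i1 i2)
include C

theorem comm_i1y : Commute i1 y :=
  (comm_of_fixed h C.hy C.m1 (by rw [C.ρy, C.π1, g0_app, loc_facts.1])).symm

theorem comm_i2y : Commute i2 y :=
  (comm_of_fixed h C.hy C.m2 (by rw [C.ρy, C.π2, g0_app, loc_facts.2.1])).symm

theorem comm_t2i1 : Commute t2 i1 :=
  comm_of_fixed h C.h2 C.m1 (by rw [C.ρ2, C.π1, r2_app, loc_facts.2.2.2.2.2.2.1])

theorem comm_t1i2 : Commute t1 i2 :=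
  comm_of_fixed h C.h1 C.m2 (by rw [C.ρ1, C.π2, r1_app, loc_facts.2.2.2.2.2.2.2.1])

theorem comm_i12 : Commute i1 i2 :=
  (h.commute_iff C.m1 C.m2).2 (by rw [C.π1, C.π2, polar_fb, loc_facts.2.2.2.2.2.2.2.2.2.2])

theorem comm_y (A : S2) : Commute y (C.tri1.hom A) ∧ Commute y (C.tri2.hom A) :=
  ⟨C.tri1.commute_hom C.comm_i1y.symm C.y1 A, C.tri2.commute_hom C.comm_i2y.symm C.y2 A⟩

theorem comm_z (A : S2) : Commute z (C.tri1.hom A) ∧ Commute z (C.tri2.hom A) :=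
  ⟨C.tri1.commute_hom (h.le _ C.m1).symm C.h1.xz.symm A,
    C.tri2.commute_hom (h.le _ C.m2).symm C.h2.xz.symm A⟩

theorem comm12 (A B : S2) : Commute (C.tri1.hom A) (C.tri2.hom B) := by
  refine C.tri2.commute_hom ?_ ?_ B
  · exact (C.tri1.commute_hom C.comm_i12.symm C.comm_t1i2.symm A).symm
  · exact (C.tri1.commute_hom C.comm_t2i1 C.t12.symm A).symm

theorem q1_mem (p r : ℕ) : i1 ^ p * (t1 * i1 * t1⁻¹) ^ r ∈ Q ∧
    h.π (i1 ^ p * (t1 * i1 * t1⁻¹) ^ r) = pv E1 F1 p r := by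
  have hj := h.norm t1 C.h1.xz i1 C.m1
  refine ⟨mul_mem (pow_mem C.m1 p) (pow_mem hj r), ?_⟩
  rw [h.π_mul _ (pow_mem C.m1 p) _ (pow_mem hj r), π_pow h C.m1, π_pow h hj,
    h.ρ_π t1 C.h1.xz i1 C.m1, C.ρ1, C.π1, r1_app, loc_facts.2.2.1]
  rfl

theorem q2_mem (p r : ℕ) : i2 ^ p * (t2 * i2 * t2⁻¹) ^ r ∈ Q ∧
    h.π (i2 ^ p * (t2 * i2 * t2⁻¹) ^ r) = pv E2 F2 p r := by
  have hj := h.norm t2 C.h2.xz i2 C.m2
  refine ⟨mul_mem (pow_mem C.m2 p) (pow_mem hj r), ?_⟩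
  rw [h.π_mul _ (pow_mem C.m2 p) _ (pow_mem hj r), π_pow h C.m2, π_pow h hj,
    h.ρ_π t2 C.h2.xz i2 C.m2, C.ρ2, C.π2, r2_app, loc_facts.2.2.2.1]
  rfl

theorem pow_z {x : G} (hx : x * z = z * x) (n : ℕ) : x ^ n * z = z * x ^ n :=
  ((show Commute x z from hx).pow_left n).eq

theorem ρ_rot (a b l : ℕ) : h.ρ (t1 ^ a * t2 ^ b * y ^ l) = r1 ^ a * r2 ^ b * g0 ^ l := by
  rw [h.ρ_mul _ _ (h.mul_comm' (C.pow_z C.h1.xz a) (C.pow_z C.h2.xz b)) (C.pow_z C.hy.xz l),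
    h.ρ_mul _ _ (C.pow_z C.h1.xz a) (C.pow_z C.h2.xz b), h.ρ_pow C.h1.xz, h.ρ_pow C.h2.xz,
    h.ρ_pow C.hy.xz, C.ρ1, C.ρ2, C.ρy]

/-- membership in the central product of the two quaternion groups -/
theorem inQ_iff (x : G) : InQ C.tri1.hom C.tri2.hom x ↔ x ∈ Q ∧ x * y = y * x := by
  constructor
  · rintro ⟨a, ha, b, hb, qa, qb, rfl⟩
    refine ⟨?_, ((C.comm_y _).1.mul_right (C.comm_y _).2).eq.symm⟩
    rw [pp, C.tri1.hom_sl ha, C.tri2.hom_sl hb, nval, nval, q_codes.1 a ha qa, q_codes.1 b hb qb,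
      pow_zero, mul_one, pow_zero, mul_one]
    exact mul_mem (C.q1_mem _ _).1 (C.q2_mem _ _).1
  · rintro ⟨hx, hxy⟩
    have hfix := fixed_of_comm h C.hy.xz hx hxy.symm
    rw [C.ρy, g0_app] at hfix
    obtain ⟨u, hu, u', hu', e⟩ := plane_facts.2.2.2.1 _ hfix
    obtain ⟨p, hp, r, hr, rfl⟩ := pv_facts.2.2.1 u hu
    obtain ⟨p', hp', r', hr', rfl⟩ := pv_facts.2.2.2.1 u' hu'
    obtain ⟨m1, v1⟩ := C.q1_mem p r
    obtain ⟨m2, v2⟩ := C.q2_mem p' r'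
    have hπ : h.π (i1 ^ p * (t1 * i1 * t1⁻¹) ^ r * (i2 ^ p' * (t2 * i2 * t2⁻¹) ^ r')) = h.π x := by
      rw [h.π_mul _ m1 _ m2, v1, v2, e]
    have mk : ∀ p < 4, ∀ r < 2, ∀ p' < 4, ∀ r' < 2, InQ C.tri1.hom C.tri2.hom
        (i1 ^ p * (t1 * i1 * t1⁻¹) ^ r * (i2 ^ p' * (t2 * i2 * t2⁻¹) ^ r')) := by
      intro p hp r hr p' hp' r' hr'
      have l1 : nc p r 0 < 24 := by unfold nc; omega
      have l2 : nc p' r' 0 < 24 := by unfold nc; omega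
      have z1 : nm (nc p r 0) = 0 := by unfold nm nc; omega
      have z2 : nm (nc p' r' 0) = 0 := by unfold nm nc; omega
      refine ⟨_, (sl_tab.2.1 _ l1).2.1, _, (sl_tab.2.1 _ l2).2.1, q_codes.2 _ l1 z1,
        q_codes.2 _ l2 z2, ?_⟩
      rw [pp, C.tri1.hom_sl (sl_tab.2.1 _ l1).2.1, C.tri2.hom_sl (sl_tab.2.1 _ l2).2.1,
        (sl_tab.2.1 _ l1).1, (sl_tab.2.1 _ l2).1, C.tri1.val_nc _ _ _ hr, C.tri2.val_nc _ _ _ hr',
        pow_zero, mul_one, pow_zero, mul_one]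
    rcases h.π_eq (mul_mem m1 m2) hx hπ with d | d
    · rw [d]; exact mk p (by omega) r hr p' (by omega) r' hr'
    · rw [d, show i1 ^ p * (t1 * i1 * t1⁻¹) ^ r * (i2 ^ p' * (t2 * i2 * t2⁻¹) ^ r') * z =
          i1 ^ (p + 2) * (t1 * i1 * t1⁻¹) ^ r * (i2 ^ p' * (t2 * i2 * t2⁻¹) ^ r') by
        have c1 : Commute ((t1 * i1 * t1⁻¹) ^ r) z :=
          (show Commute (t1 * i1 * t1⁻¹) z from h.le _ (h.norm t1 C.h1.xz i1 C.m1)).pow_left r
        rw [mul_assoc (i1 ^ p * (t1 * i1 * t1⁻¹) ^ r), h.le _ m2, ← mul_assoc,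
          mul_assoc (i1 ^ p), c1.eq, ← mul_assoc, pow_add, pow_two, C.tri1.ii]; simp only [mul_assoc]]
      exact mk (p + 2) (by omega) r hr p' (by omega) r' hr'

/-- elements over the rotations -/
theorem mem_D {c : G} (hc : c * z = z * c) (hcy : c * y = y * c) {a b l : ℕ}
    (e : h.ρ c = r1 ^ a * r2 ^ b * g0 ^ l) :
    ∃ A B, c = C.tri1.hom A * C.tri2.hom B * y ^ l := by
  set u := t1 ^ a * t2 ^ b * y ^ l with hu
  have huz : u * z = z * u :=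
    h.mul_comm' (h.mul_comm' (C.pow_z C.h1.xz a) (C.pow_z C.h2.xz b)) (C.pow_z C.hy.xz l)
  have huy : Commute u y :=
    (((show Commute y t1 from C.y1).symm.pow_left a).mul_left
      ((show Commute y t2 from C.y2).symm.pow_left b)).mul_left ((Commute.refl y).pow_left l)
  have hq : c * u⁻¹ ∈ Q := (h.ρ_ker _ (h.mul_comm' hc (h.inv_comm huz))).1 (by
    rw [h.ρ_mul _ _ hc (h.inv_comm huz), h.ρ_inv huz, hu, C.ρ_rot, e, mul_inv_cancel])
  obtain ⟨a', -, b', -, -, -, hab⟩ :=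
    (C.inQ_iff _).2 ⟨hq, ((show Commute c y from hcy).mul_left huy.inv_left).eq⟩
  refine ⟨sl a' * sl 1 ^ a, sl b' * sl 1 ^ b, ?_⟩
  rw [map_mul, map_mul, map_pow, map_pow, C.tri1.hom_one', C.tri2.hom_one']
  have hsw : Commute (C.tri2.hom (sl b')) (t1 ^ a) := by
    refine Commute.pow_right ?_ a
    have h' := (C.comm12 (sl 1) (sl b')).symm
    rwa [C.tri1.hom_one'] at h' 
  calc c = c * u⁻¹ * u := by group
    _ = C.tri1.hom (sl a') * C.tri2.hom (sl b') * u := by rw [← hab]; rfl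
    _ = C.tri1.hom (sl a') * (C.tri2.hom (sl b') * t1 ^ a) * t2 ^ b * y ^ l := by
      rw [hu]; group
    _ = _ := by rw [hsw.eq]; group

theorem form (A B : S2) : ∃ p < 4, ∃ r < 2, ∃ m < 3, ∃ p' < 4, ∃ r' < 2, ∃ m' < 3,
    C.tri1.hom A * C.tri2.hom B =
      i1 ^ p * (t1 * i1 * t1⁻¹) ^ r * (i2 ^ p' * (t2 * i2 * t2⁻¹) ^ r') * (t1 ^ m * t2 ^ m') ∧
    (p = 0 → r = 0 → m = 0 → A = 1) ∧ (p = 2 → r = 0 → m = 0 → A = -1) ∧
    (p' = 0 → r' = 0 → m' = 0 → B = 1) ∧ (p' = 2 → r' = 0 → m' = 0 → B = -1) := by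
  obtain ⟨p, hp, r, hr, m, hm, e, f1, f2⟩ := C.tri1.hom_form A
  obtain ⟨p', hp', r', hr', m', hm', e', g1, g2⟩ := C.tri2.hom_form B
  refine ⟨p, hp, r, hr, m, hm, p', hp', r', hr', m', hm', ?_, f1, f2, g1, g2⟩
  rw [e, e']
  have c1 : Commute (t1 ^ m) (i2 ^ p' * (t2 * i2 * t2⁻¹) ^ r') :=
    ((C.comm_t1i2.pow_right p').mul_right
      ((((show Commute t1 t2 from C.t12).mul_right C.comm_t1i2).mul_right
        (show Commute t1 t2 from C.t12).inv_right).pow_right r')).pow_left m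
  calc i1 ^ p * (t1 * i1 * t1⁻¹) ^ r * t1 ^ m * (i2 ^ p' * (t2 * i2 * t2⁻¹) ^ r' * t2 ^ m')
      = i1 ^ p * (t1 * i1 * t1⁻¹) ^ r * (t1 ^ m * (i2 ^ p' * (t2 * i2 * t2⁻¹) ^ r')) * t2 ^ m' := by
        group
    _ = _ := by rw [c1.eq]; group

theorem ρ_form (A B : S2) : ∃ m < 3, ∃ m' < 3,
    h.ρ (C.tri1.hom A * C.tri2.hom B) = r1 ^ m * r2 ^ m' := by
  obtain ⟨p, -, r, -, m, hm, p', -, r', -, m', hm', e, -, -, -, -⟩ := C.form A B
  refine ⟨m, hm, m', hm', ?_⟩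
  have hm0 := mul_mem (C.q1_mem p r).1 (C.q2_mem p' r').1
  have hz' := h.mul_comm' (C.pow_z C.h1.xz m) (C.pow_z C.h2.xz m')
  rw [e, h.ρ_mul _ _ (h.le _ hm0) hz', h.ρ_Q hm0, one_mul,
    h.ρ_mul _ _ (C.pow_z C.h1.xz m) (C.pow_z C.h2.xz m'), h.ρ_pow C.h1.xz, h.ρ_pow C.h2.xz, C.ρ1,
    C.ρ2]

/-- independence -/
theorem indep {A B : S2} {l : ℕ} (hl : l < 3)
    (e : C.tri1.hom A * C.tri2.hom B * y ^ l = 1) :
    l = 0 ∧ ((A = 1 ∧ B = 1) ∨ (A = -1 ∧ B = -1)) := by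
  obtain ⟨p, hp, r, hr, m, hm, p', hp', r', hr', m', hm', eq, f1, f2, g1, g2⟩ := C.form A B
  rw [eq] at e
  obtain ⟨m1, v1⟩ := C.q1_mem p r
  obtain ⟨m2, v2⟩ := C.q2_mem p' r'
  have hm0 := mul_mem m1 m2
  have hρ : g0 ^ l * (r1 ^ m * r2 ^ m') = 1 := by
    have := congrArg h.ρ e
    rw [mul_assoc (_ * _ : G), h.ρ_mul _ _ (h.le _ hm0)
        (h.mul_comm' (h.mul_comm' (C.pow_z C.h1.xz m) (C.pow_z C.h2.xz m')) (C.pow_z C.hy.xz l)),
      h.ρ_Q hm0, one_mul, C.ρ_rot, h.ρ_one] at this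
    rw [← this]
    exact (((show Commute g0 r1 from g0_r1).pow_pow l m).mul_right
      ((show Commute g0 r2 from g0_r2).pow_pow l m')).eq
  have h00 : (1 : O phi) = kO 0 := by rw [kO_small (by norm_num), pow_zero]
  rw [← kO_rot hl hm hm', h00] at hρ
  have h0 := kO_inj (by omega) (by norm_num) hρ
  obtain ⟨rfl, rfl, rfl⟩ : l = 0 ∧ m = 0 ∧ m' = 0 := by omega
  simp only [pow_zero, mul_one] at e
  have hπ := congrArg h.π e
  rw [h.π_mul _ m1 _ m2, v1, v2, h.π_one] at hπ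
  obtain ⟨pe, rfl, pe', rfl⟩ := pv_facts.1 p hp r hr p' hp' r' hr' hπ
  simp only [pow_zero, mul_one] at e
  refine ⟨rfl, ?_⟩
  obtain rfl | rfl : p = 0 ∨ p = 2 := by omega
  all_goals obtain rfl | rfl : p' = 0 ∨ p' = 2 := by omega
  · exact Or.inl ⟨f1 rfl rfl rfl, g1 rfl rfl rfl⟩
  · rw [pow_zero, one_mul, pow_two, C.tri2.ii] at e
    exact absurd e h.z_ne
  · rw [pow_zero, mul_one, pow_two, C.tri1.ii] at e
    exact absurd e h.z_ne
  · exact Or.inr ⟨f2 rfl rfl rfl, g2 rfl rfl rfl⟩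

theorem card_CQ : Nat.card {q : G // q ∈ Q ∧ q * y = y * q} = 32 := by
  classical
  choose r hr hπr using h.π_surj
  let f : {v : V6 // rotV A0 U0 v = v} × ZMod 2 → {q : G // q ∈ Q ∧ q * y = y * q} := fun p =>
    ⟨r p.1.1 * zp z p.2, by
      have hzq : zp z p.2 ∈ Q := by unfold zp; split_ifs; exacts [one_mem Q, h.hzQ]
      have hzy : Commute (zp z p.2) y := by
        unfold zp; split_ifs; exacts [Commute.one_left y, C.hy.xz.symm]
      have h1 : Commute (r p.1.1) y :=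
        (comm_of_fixed h C.hy (hr _) (by rw [C.ρy, hπr, g0_app, p.1.2])).symm
      exact ⟨mul_mem (hr _) hzq, (h1.mul_left hzy).eq⟩⟩
  have hz' : ∀ e, zp z e ∈ Q ∧ h.π (zp z e) = 0 := fun e => by
    unfold zp; split_ifs
    exacts [⟨one_mem Q, h.π_one⟩, ⟨h.hzQ, h.π_z⟩]
  have hf : Function.Bijective f := by
    refine ⟨?_, ?_⟩
    · rintro ⟨⟨v, hv⟩, e⟩ ⟨⟨v', hv'⟩, e'⟩ he
      have h1 : r v * zp z e = r v' * zp z e' := congrArg Subtype.val he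
      have h2 := congrArg h.π h1
      rw [h.π_mul _ (hr v) _ (hz' e).1, h.π_mul _ (hr v') _ (hz' e').1, (hz' e).2, (hz' e').2,
        hπr, hπr, add_zero, add_zero] at h2
      subst h2
      exact Prod.ext rfl (zp_inj h.z_ne (mul_left_cancel h1))
    · rintro ⟨q, hq, hqy⟩
      have hfix := fixed_of_comm h C.hy.xz hq hqy.symm
      rw [C.ρy, g0_app] at hfix
      rcases h.π_eq (hr (h.π q)) hq (hπr _) with d | d
      · exact ⟨(⟨h.π q, hfix⟩, 0), Subtype.ext (by show r (h.π q) * zp z 0 = q; simp only [zp]; simpa using d.symm)⟩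
      · exact ⟨(⟨h.π q, hfix⟩, 1), Subtype.ext (by show r (h.π q) * zp z 1 = q; simp only [zp]; simpa using d.symm)⟩
  rw [← Nat.card_congr (Equiv.ofBijective f hf), Nat.card_prod, pv_facts.2.2.2.2, Nat.card_zmod]

theorem ρ_code {c : G} (hc : c * z = z * c) (hcy : c * y = y * c) : ∃ x < 108, h.ρ c = kO x :=
  exists_code (h.ρ_mem c hc) (by rw [← C.ρy, rho_comm h hc C.hy.xz hcy])

theorem exists_of_code (x : ℕ) : ∃ c, c * z = z * c ∧ c * y = y * c ∧ h.ρ c = kO x := by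
  obtain ⟨c, hc, e, hy'⟩ := lift_one h (kO_mem x) C.hy C.hy
    (by rw [C.ρy, kO_comm, mul_inv_cancel_right])
  exact ⟨c, hc, mul_inv_eq_iff_eq_mul.1 hy', e⟩

theorem card_loc : Nat.card {c : G // c * z = z * c ∧ c * y = y * c} = 3456 := by
  classical
  choose L hL hLy hLρ using C.exists_of_code
  let f : Fin 108 × {q : G // q ∈ Q ∧ q * y = y * q} → {c : G // c * z = z * c ∧ c * y = y * c} :=
    fun p => ⟨L p.1.val * p.2.1, h.mul_comm' (hL _) (h.le _ p.2.2.1),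
      ((show Commute (L p.1.val) y from hLy _).mul_left p.2.2.2).eq⟩
  have hf : Function.Bijective f := by
    refine ⟨?_, ?_⟩
    · rintro ⟨⟨x, hx⟩, q, hq, hqy⟩ ⟨⟨x', hx'⟩, q', hq', hqy'⟩ he
      have h1 : L x * q = L x' * q' := congrArg Subtype.val he
      have h2 := congrArg h.ρ h1
      rw [h.ρ_mul _ _ (hL x) (h.le q hq), h.ρ_mul _ _ (hL x') (h.le q' hq'), h.ρ_Q hq, h.ρ_Q hq',
        mul_one, mul_one, hLρ, hLρ] at h2
      obtain rfl := kO_inj hx hx' h2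
      exact Prod.ext rfl (Subtype.ext (mul_left_cancel h1))
    · rintro ⟨c, hc, hcy⟩
      obtain ⟨x, hx, e⟩ := C.ρ_code hc hcy
      have hq : (L x)⁻¹ * c ∈ Q := (h.ρ_ker _ (h.mul_comm' (h.inv_comm (hL x)) hc)).1 (by
        rw [h.ρ_mul _ _ (h.inv_comm (hL x)) hc, h.ρ_inv (hL x), hLρ, e, inv_mul_cancel])
      exact ⟨(⟨x, hx⟩, ⟨_, hq, ((show Commute (L x) y from hLy x).inv_left.mul_left hcy).eq⟩),
        Subtype.ext (mul_inv_cancel_left (L x) c)⟩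
  rw [← Nat.card_congr (Equiv.ofBijective f hf), Nat.card_prod, Nat.card_fin, C.card_CQ]

/-- conjugation permutes the two factors -/
theorem conj_D {c : G} (hc : c * z = z * c) (hcy : c * y = y * c) (A B : S2) :
    ∃ A' B', ∃ l : ℕ, c * (C.tri1.hom A * C.tri2.hom B) * c⁻¹ =
      C.tri1.hom A' * C.tri2.hom B' * y ^ l := by
  obtain ⟨x, hx, e⟩ := C.ρ_code hc hcy
  obtain ⟨m, -, m', -, em⟩ := C.ρ_form A B
  obtain ⟨a, -, b, -, ea⟩ := conj_r1 hx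
  obtain ⟨a', -, b', -, eb⟩ := conj_r2 hx
  have hdz : C.tri1.hom A * C.tri2.hom B * z = z * (C.tri1.hom A * C.tri2.hom B) :=
    h.mul_comm' (C.comm_z A).1.eq.symm (C.comm_z B).2.eq.symm
  have hdy : Commute (C.tri1.hom A * C.tri2.hom B) y :=
    ((C.comm_y A).1.symm.mul_left (C.comm_y B).2.symm)
  have h12 : Commute r1 r2 := r1_r2
  have hρ : h.ρ (c * (C.tri1.hom A * C.tri2.hom B) * c⁻¹) =
      r1 ^ (a * m + a' * m') * r2 ^ (b * m + b' * m') * g0 ^ 0 := by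
    rw [h.ρ_conj hc hdz, em, e, pow_zero, mul_one]
    exact conj_words h12 ea eb m m'
  obtain ⟨A', B', e'⟩ := C.mem_D (h.conj_comm hc hdz)
    (((show Commute c y from hcy).mul_left hdy).mul_left (show Commute c y from hcy).inv_left).eq hρ
  exact ⟨A', B', 0, e'⟩

theorem cent_Q {c : G} (hc : c * z = z * c) (hcy : c * y = y * c)
    (hall : ∀ q ∈ Q, q * y = y * q → c * q = q * c) :
    ∃ q l, (q ∈ Q ∧ q * y = y * q) ∧ c = q * y ^ (l : ℕ) := by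
  obtain ⟨x, hx, e⟩ := C.ρ_code hc hcy
  have fix : ∀ v, rotV A0 U0 v = v → kV x v = v := by
    intro v hv
    obtain ⟨q, hq, hπ⟩ := h.π_surj v
    have hqy : q * y = y * q := (comm_of_fixed h C.hy hq (by rw [C.ρy, hπ, g0_app, hv])).symm
    have h1 := fixed_of_comm h hc hq (hall q hq hqy)
    rwa [e, hπ, kO_app] at h1
  obtain ⟨-, b2, -, -, b5, b6, -⟩ := loc_facts
  have hlt := (normal_facts x hx).2.2 (fix _ loc_facts.1) (fix _ b5) (fix _ b2) (fix _ b6)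
  refine ⟨c * (y ^ x)⁻¹, x, ⟨?_, ?_⟩, by group⟩
  · refine (h.ρ_ker _ (h.mul_comm' hc (h.inv_comm (C.pow_z C.hy.xz x)))).1 ?_
    rw [h.ρ_mul _ _ hc (h.inv_comm (C.pow_z C.hy.xz x)), h.ρ_inv (C.pow_z C.hy.xz x),
      h.ρ_pow C.hy.xz, C.ρy, e, kO_small hlt, mul_inv_cancel]
  · exact ((show Commute c y from hcy).mul_left ((Commute.refl y).pow_left x).inv_left).eq

end Cfg

end Cfsg.Agent.H66.SuzY
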