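import Cfsg.Agent.H66.SuzY.Quot
import Cfsg.Agent.H66.UFour.Sub
import Cfsg.Prelude.Def_CaseTheorems

/-!
The centraliser of the rotation is quasisimple with quotient `U4(3)`.
-/

set_option autoImplicit false
set_option linter.unusedSectionVars false
set_option linter.style.haveILetI false
set_option synthInstance.maxSize 4000
set_option synthInstance.maxHeartbeats 400000
set_option maxRecDepth 20000

namespace Cfsg.Agent.H66.SuzY

open QuadraticMap Cfsg.Agent.Orthogonal Cfsg.Agent.H73.Suz Cfsg.Agent.H92.ExtraForm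
open Cfsg.Agent.H66.UFour
open scoped commutatorElement

theorem cA1_code : cA1 = UFour.mk 1 0 0 0 := by decide +kernel

variable {G : Type*} [Group G] [Finite G] {z : G} {Q : Subgroup G} {h : Setup z Q}
variable {y t1 t2 i1 i2 : G}

namespace Cfg

variable (C : Cfg h y t1 t2 i1 i2)
include C

theorem p_A1 (K : Hyp C.zb) (e : K.F.hom = C.e1) :
    K.p cA1 = ((⟨t1, mem_CY.2 C.y1.symm⟩ : CY y) : QY y) := by
  show K.F.phi cA1 = _
  rw [cA1_code, K.F.phi_mk (by norm_num) (by norm_num) (by norm_num) (by norm_num), sl_zero,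
    map_one, mul_one, pow_zero, pow_zero, mul_one, mul_one, e]
  exact congrArg (QuotientGroup.mk (s := NY y)) (Subtype.ext C.tri1.hom_one')

theorem main (hcz : Nat.card (Subgroup.centralizer ({z} : Set G)) = 128 * 25920) :
    Cfsg.IsQuasisimple (CY y) ∧
      Nonempty (QY y ≃* Model.grp) ∧
      (CY y).relIndex (Subgroup.normalizer ((Subgroup.zpowers y : Subgroup G) : Set G)) = 2 := by
  classical
  obtain ⟨K, hK⟩ := C.exists_hyp_quot hcz
  obtain ⟨hcard, -, ⟨e⟩⟩ := K.ident
  haveI := grp_simple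
  haveI hs : IsSimpleGroup (QY y) := e.symm.isSimpleGroup
  have hnc : ¬ ∀ a b : QY y, a * b = b * a := by
    intro hall
    have htop : Subgroup.centralizer ({C.zb} : Set (QY y)) = ⊤ := by
      rw [eq_top_iff]
      exact fun q _ => Subgroup.mem_centralizer_singleton_iff.2 (hall q C.zb)
    have := C.card_cent
    rw [htop, Subgroup.card_top, hcard] at this
    norm_num at this
  set D := commutator (CY y) with hD
  set yH : CY y := ⟨y, mem_CY.2 rfl⟩ with hyH
  have hsmall : yH ∉ D → ∀ l < 3, ∀ x : CY y, (x : G) = y ^ l → x ∈ D → l = 0 := by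
    intro hn l hl x hx hxD
    interval_cases l
    · rfl
    · exact absurd ((Subtype.ext (by rw [hx, pow_one]) : x = yH) ▸ hxD) hn
    · refine absurd ?_ hn
      have : x * x = yH := Subtype.ext (by
        push_cast
        rw [hx, ← pow_add, show 2 + 2 = 3 + 1 from rfl, pow_add, C.y_three, one_mul, pow_one])
      rw [← this]
      exact mul_mem hxD hxD
  have hyD : yH ∈ D := by
    by_contra hn
    obtain ⟨T, b, c, Co⟩ := K.exists_coords
    have R := K.rel Co
    obtain ⟨xx, hxx⟩ := QuotientGroup.mk_surjective (K.psi b 9)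
    obtain ⟨yy, hyy⟩ := QuotientGroup.mk_surjective (K.wv b c wY1)
    set tH : CY y := ⟨t1, mem_CY.2 C.y1.symm⟩ with htH
    have hp : K.p cA1 = (tH : QY y) := C.p_A1 K hK
    -- t1 is a commutator
    have htD : tH ∈ D := by
      obtain ⟨i, hiz, hρi, hi1, hi2⟩ := lift_two h iO_mem
        (x := t1 * t1) (x' := t1) (y := y) (y' := y)
        ⟨h.mul_comm' C.h1.xz C.h1.xz, by
          calc t1 * t1 * (t1 * t1 * (t1 * t1)) = t1 * (t1 * t1) * (t1 * (t1 * t1)) := by group
            _ = 1 := by rw [C.h1.cube, one_mul]⟩ C.h1 C.hy C.hy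
        (((show Commute y t1 from C.y1).symm.mul_left (show Commute y t1 from C.y1).symm)).eq
        C.y1.symm (by rw [h.ρ_mul _ _ C.h1.xz C.h1.xz, C.ρ1, iO_r1])
        (by rw [C.ρy, iO_g0])
      set iH : CY y := ⟨i, mem_CY.2 (mul_inv_eq_iff_eq_mul.1 hi2)⟩ with hiH
      have hc : ⁅iH, tH * tH⁆ ∈ D :=
        Subgroup.commutator_mem_commutator (Subgroup.mem_top _) (Subgroup.mem_top _)
      have he : ⁅iH, tH * tH⁆ = tH⁻¹ := Subtype.ext (by
        rw [commutatorElement_def]
        push_cast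
        show i * (t1 * t1) * i⁻¹ * (t1 * t1)⁻¹ = t1⁻¹
        rw [hi1]
        group)
      rw [he] at hc
      exact (Subgroup.inv_mem_iff D).1 hc
    -- lifts commute with t1
    have hfix : ∀ x : CY y, (x : QY y) * (tH : QY y) = (tH : QY y) * (x : QY y) →
        (x : G) * t1 = t1 * x := by
      intro x hx
      rw [← QuotientGroup.mk_mul, ← QuotientGroup.mk_mul] at hx
      obtain ⟨l, hl, hl'⟩ := C.mk_eq hx
      push_cast at hl'
      change t1 * (x : G) = (x : G) * t1 * y ^ l at hl'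
      have hc : ⁅x⁻¹, tH⁆ ∈ D :=
        Subgroup.commutator_mem_commutator (Subgroup.mem_top _) (Subgroup.mem_top _)
      have h0 : l = 0 := hsmall hn l hl _ (by
        rw [commutatorElement_def]
        push_cast
        show (x : G)⁻¹ * t1 * (x : G)⁻¹⁻¹ * t1⁻¹ = y ^ l
        rw [inv_inv, mul_assoc ((x : G))⁻¹, hl', ← mul_assoc, ← mul_assoc, inv_mul_cancel, one_mul,
          ((show Commute t1 y from C.y1.symm).pow_right l).eq, mul_inv_cancel_right]) hc
      rw [h0, pow_zero, mul_one] at hl'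
      exact hl'.symm
    have hx1 : (xx : G) * t1 = t1 * xx := hfix xx (by
      rw [hxx, ← hp]; exact R.c13.eq.symm)
    have hy1' : (yy : G) * t1 = t1 * yy := hfix yy (by
      rw [hyy, ← hp]; exact mul_inv_eq_iff_eq_mul.1 R.y1a1)
    have hcomm : (((yy * xx * yy⁻¹ * xx⁻¹ : CY y)) : QY y) = ((tH⁻¹ : CY y) : QY y) := by
      rw [QuotientGroup.mk_mul, QuotientGroup.mk_mul, QuotientGroup.mk_mul, QuotientGroup.mk_inv,
        QuotientGroup.mk_inv, QuotientGroup.mk_inv, hxx, hyy, R.y1x1, mul_inv_cancel_right, hp]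
    obtain ⟨l, hl, hl'⟩ := C.mk_eq hcomm
    have hcD : ⁅yy, xx⁆ ∈ D :=
      Subgroup.commutator_mem_commutator (Subgroup.mem_top _) (Subgroup.mem_top _)
    have h0 : l = 0 := hsmall hn l hl (⁅yy, xx⁆⁻¹ * tH⁻¹) (by
      rw [commutatorElement_def]
      push_cast at hl' ⊢
      rw [hl', inv_mul_cancel_left]) (mul_mem (inv_mem hcD) (inv_mem htD))
    rw [h0, pow_zero, mul_one] at hl'
    push_cast at hl'
    change t1⁻¹ = (yy : G) * xx * (yy : G)⁻¹ * (xx : G)⁻¹ at hl'
    obtain ⟨c', hcz', -, hct⟩ := lift_one h (four_mem sData_ok) C.h1 C.hy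
      (by rw [C.ρ1, C.ρy]; exact sO_r1)
    have hconj : ∀ x : G, x * t1 = t1 * x → c' * x * c'⁻¹ ∈ CY y := fun x hx => mem_CY.2 (by
      rw [← hct, conj_mul, conj_mul, hx])
    have hfin : ⁅(⟨_, hconj _ hy1'⟩ : CY y), (⟨_, hconj _ hx1⟩ : CY y)⁆ = yH⁻¹ := Subtype.ext (by
      rw [commutatorElement_def]
      push_cast
      rw [conj_inv, conj_inv, conj_mul, conj_mul, conj_mul, ← hl', ← conj_inv]
      show (c' * t1 * c'⁻¹)⁻¹ = y⁻¹
      rw [hct])
    exact hn ((Subgroup.inv_mem_iff D).1 (hfin ▸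
      Subgroup.commutator_mem_commutator (Subgroup.mem_top _) (Subgroup.mem_top _)))
  have hND : NY y ≤ D := by
    intro x hx
    rw [Subgroup.mem_subgroupOf] at hx
    obtain ⟨k, hk⟩ := hx
    have : x = yH ^ k := Subtype.ext (by rw [← hk]; simp [hyH])
    rw [this]
    exact zpow_mem hyD k
  have hDmap : D.map (QuotientGroup.mk' (NY y)) = ⊤ := by
    haveI : (D.map (QuotientGroup.mk' (NY y))).Normal :=
      Subgroup.Normal.map (by rw [hD]; infer_instance) _ (QuotientGroup.mk'_surjective _)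
    refine (Subgroup.Normal.eq_bot_or_eq_top inferInstance).resolve_left fun hb => hnc ?_
    intro a b
    obtain ⟨a, rfl⟩ := QuotientGroup.mk_surjective a
    obtain ⟨b, rfl⟩ := QuotientGroup.mk_surjective b
    have hab : QuotientGroup.mk' (NY y) ⁅a, b⁆ ∈ D.map (QuotientGroup.mk' (NY y)) :=
      Subgroup.mem_map_of_mem _
        (Subgroup.commutator_mem_commutator (Subgroup.mem_top _) (Subgroup.mem_top _))
    rw [hb, Subgroup.mem_bot, map_commutatorElement] at hab
    exact commutatorElement_eq_one_iff_mul_comm.1 hab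
  have hDtop : D = ⊤ := by
    have := congrArg (Subgroup.comap (QuotientGroup.mk' (NY y))) hDmap
    rw [Subgroup.comap_map_eq, QuotientGroup.ker_mk', sup_eq_left.2 hND, Subgroup.comap_top] at this
    exact this
  have hcen : Subgroup.center (CY y) = NY y := by
    refine le_antisymm (fun x hx => ?_) (fun x hx => ?_)
    · rw [← QuotientGroup.eq_one_iff]
      have hxc : (x : QY y) ∈ Subgroup.center (QY y) := by
        rw [Subgroup.mem_center_iff]
        intro q
        obtain ⟨q, rfl⟩ := QuotientGroup.mk_surjective q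
        rw [← QuotientGroup.mk_mul, ← QuotientGroup.mk_mul, Subgroup.mem_center_iff.1 hx q]
      rcases (inferInstance : (Subgroup.center (QY y)).Normal).eq_bot_or_eq_top with hb | hb
      · rw [hb] at hxc; exact Subgroup.mem_bot.1 hxc
      · exfalso
        refine hnc fun a b => ?_
        have : b ∈ Subgroup.center (QY y) := by rw [hb]; trivial
        exact Subgroup.mem_center_iff.1 this a
    · rw [Subgroup.mem_center_iff]
      intro g
      rw [Subgroup.mem_subgroupOf] at hx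
      obtain ⟨k, hk⟩ := hx
      refine Subtype.ext ?_
      push_cast
      rw [← hk]
      exact ((show Commute (g : G) y from mem_CY.1 g.2).zpow_right k).eq
  refine ⟨⟨⟨hDtop⟩, ?_⟩, ⟨e.symm⟩, ?_⟩
  · haveI : IsSimpleGroup (CY y ⧸ Subgroup.center (CY y)) :=
      (QuotientGroup.quotientMulEquivOfEq hcen).isSimpleGroup
    infer_instance
  obtain ⟨s, w, P⟩ := exists_setup_pair h
  obtain ⟨n, -, -, hn⟩ := C.exists_inverter P.hs P.hπ
  have hy2 : y * y = y⁻¹ := eq_inv_of_mul_eq_one_right C.hy.cube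
  rw [hy2] at hn
  have hny : n * y * n⁻¹ = y⁻¹ := by
    calc n * y * n⁻¹ = (n * y⁻¹ * n⁻¹)⁻¹ := by group
      _ = y⁻¹ := by rw [hn]
  set N := Subgroup.normalizer ((Subgroup.zpowers y : Subgroup G) : Set G) with hN
  have hnN : n ∈ N := by
    refine norm_of_le ?_
    rintro _ ⟨k, rfl⟩
    show n * y ^ k * n⁻¹ ∈ Subgroup.zpowers y
    rw [← conj_zpow, hny, inv_zpow, ← zpow_neg]
    exact ⟨-k, rfl⟩
  have hyy : y ≠ y⁻¹ := by
    intro e0
    have h2 : y * y = 1 := mul_eq_one_iff_eq_inv.2 e0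
    have hy0 : y = 1 := by have := C.hy.cube; rwa [h2, mul_one] at this
    have h1 : C.tri1.hom (1 : S2) * C.tri2.hom 1 * y ^ 1 = 1 := by
      rw [map_one, map_one, one_mul, one_mul, pow_one, hy0]
    exact absurd (C.indep (by norm_num) h1).1 one_ne_zero
  have hbcases : ∀ g ∈ N, g * y * g⁻¹ = y ∨ g * y * g⁻¹ = y⁻¹ := by
    intro g hg
    have hm := (Subgroup.mem_normalizer_iff.1 hg y).1 (Subgroup.mem_zpowers y)
    obtain ⟨k, hk⟩ := (mem_powers_iff_mem_zpowers.2 hm : g * y * g⁻¹ ∈ Submonoid.powers y)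
    change y ^ k = _ at hk
    rw [pow_eq_pow_mod k C.y_three] at hk
    have hlt : k % 3 < 3 := Nat.mod_lt _ (by norm_num)
    obtain e0 | e0 | e0 : k % 3 = 0 ∨ k % 3 = 1 ∨ k % 3 = 2 := by omega
    · rw [e0, pow_zero] at hk
      exact absurd (conj_eq_one_iff.1 hk.symm) (fun e1 => hyy (by rw [e1, inv_one]))
    · left; rw [← hk, e0, pow_one]
    · right; rw [← hk, e0, pow_two, hy2]
  show ((CY y).subgroupOf N).index = 2
  rw [Subgroup.index_eq_two_iff]
  refine ⟨⟨n, hnN⟩, fun g => ?_⟩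
  have key : ∀ g : G, g ∈ CY y ↔ g * y * g⁻¹ = y := fun g =>
    mem_CY.trans mul_inv_eq_iff_eq_mul.symm
  rw [Subgroup.mem_subgroupOf, Subgroup.mem_subgroupOf]
  push_cast
  rw [key, key, show (g : G) * n * y * ((g : G) * n)⁻¹ = (g : G) * (n * y * n⁻¹) * (g : G)⁻¹ by group,
    hny, ← conj_inv]
  rcases hbcases g g.2 with e0 | e0
  · rw [e0]
    exact Or.inr ⟨rfl, fun e1 => hyy e1.symm⟩
  · rw [e0, inv_inv]
    exact Or.inl ⟨rfl, fun e1 => hyy e1.symm⟩

end Cfg

end Cfsg.Agent.H66.SuzY
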