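import Cfsg.Agent.H73.Suz.Basic

/-!
The six dimensional elliptic space as a sum of three anisotropic planes, and the centraliser of
the rotation of the first plane.
-/

set_option autoImplicit false
set_option linter.unusedSectionVars false
set_option synthInstance.maxSize 4000
set_option synthInstance.maxHeartbeats 400000
set_option maxRecDepth 20000

namespace Cfsg.Agent.H66.SuzY

open QuadraticMap Cfsg.Agent.Orthogonal Cfsg.Agent.H73.Suz

/-- the form -/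
def fq (v : V6) : ZMod 2 := v.1.1 * v.1.2 + qU v.2

/-- the polar form -/
def fb (v w : V6) : ZMod 2 := v.1.1 * w.1.2 + w.1.1 * v.1.2 + fU v.2 w.2

theorem phi_fq (v : V6) : phi v = fq v := phi_apply v

theorem polar_fb (v w : V6) : polar (⇑phi) v w = fb v w := polar_phi v w

theorem fb_comm (v w : V6) : fb v w = fb w v := by
  rw [← polar_fb, ← polar_fb, polar_comm]

theorem fb_add_left (u v w : V6) : fb (u + v) w = fb u w + fb v w := by
  simp only [← polar_fb, polar_add_left]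

theorem fb_smul_left (c : ZMod 2) (v w : V6) : fb (c • v) w = c * fb v w := by
  simp only [← polar_fb, polar_smul_left, smul_eq_mul]

theorem fb_app (g : O phi) (v w : V6) :
    fb ((g : V6 ≃ₗ[ZMod 2] V6) v) ((g : V6 ≃ₗ[ZMod 2] V6) w) = fb v w := by
  simp only [← polar_fb, O.polar_app]

theorem fq_app (g : O phi) (v : V6) : fq ((g : V6 ≃ₗ[ZMod 2] V6) v) = fq v := by
  simp only [← phi_fq, O.map_app]

theorem fb_self : ∀ v : V6, fb v v = 0 := by decide +kernel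

/-- first vector of the first plane -/
def A0 : V6 := ((0, 0), (0, 0, 1, 0))
/-- second vector of the first plane -/
def U0 : V6 := ((0, 0), (0, 0, 0, 1))
/-- first vector of the second plane -/
def E1 : V6 := ((1, 1), (0, 0, 0, 0))
/-- second vector of the second plane -/
def F1 : V6 := ((1, 0), (1, 1, 0, 0))
/-- first vector of the third plane -/
def E2 : V6 := ((0, 0), (1, 1, 0, 0))
/-- second vector of the third plane -/
def F2 : V6 := ((1, 1), (1, 0, 0, 0))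

/-- the reflection as a function -/
def refV (c v : V6) : V6 := v + fb c v • c

theorem rO_refV {c : V6} (hc : fq c = 1) (v : V6) :
    (rO phi c : V6 ≃ₗ[ZMod 2] V6) v = refV c v := by
  rw [rO_app, phi_fq, hc, inv_one, one_mul, polar_fb, sub_eq_add']
  rfl

/-- rotation of a plane -/
noncomputable def rot (e f : V6) : O phi := rO phi e * rO phi f

/-- rotation as a function -/
def rotV (e f v : V6) : V6 := refV e (refV f v)

theorem rot_app {e f : V6} (he : fq e = 1) (hf : fq f = 1) (v : V6) :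
    (rot e f : V6 ≃ₗ[ZMod 2] V6) v = rotV e f v := by
  rw [rot, Subgroup.coe_mul, mul_app, rO_refV hf, rO_refV he]
  rfl

theorem rot_mem {e f : V6} (he : fq e = 1) (hf : fq f = 1) : rot e f ∈ commutator (O phi) :=
  rO_mul_mem_K (by rw [phi_fq, he]; exact one_ne_zero) (by rw [phi_fq, hf]; exact one_ne_zero)

/-- the rotation fixed throughout -/
noncomputable def g0 : O phi := rot A0 U0
/-- the rotation of the second plane -/
noncomputable def r1 : O phi := rot E1 F1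
/-- the rotation of the third plane -/
noncomputable def r2 : O phi := rot E2 F2
/-- inversion of the second and third rotation -/
noncomputable def iO : O phi := rO phi E1 * rO phi E2
/-- inversion of the first and third rotation -/
noncomputable def nO : O phi := rO phi A0 * rO phi E2

/-- data of the interchange of the last two planes -/
def wData : V6 × V6 × V6 × V6 :=
  (((1, 0), (1, 0, 0, 1)), ((1, 1), (1, 1, 0, 1)), ((0, 1), (0, 1, 0, 1)), ((0, 0), (0, 0, 0, 1)))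
/-- data of the interchange of the first two planes -/
def sData : V6 × V6 × V6 × V6 :=
  (((1, 0), (1, 0, 1, 1)), ((1, 1), (0, 1, 0, 0)), ((0, 1), (1, 0, 0, 1)), ((0, 0), (0, 1, 1, 0)))

/-- product of four reflections -/
noncomputable def four (d : V6 × V6 × V6 × V6) : O phi := rot d.1 d.2.1 * rot d.2.2.1 d.2.2.2

/-- product of four reflections as a function -/
def fourV (d : V6 × V6 × V6 × V6) (v : V6) : V6 := rotV d.1 d.2.1 (rotV d.2.2.1 d.2.2.2 v)

/-- validity of the data -/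
def FourOK (d : V6 × V6 × V6 × V6) : Prop :=
  fq d.1 = 1 ∧ fq d.2.1 = 1 ∧ fq d.2.2.1 = 1 ∧ fq d.2.2.2 = 1

theorem four_app {d : V6 × V6 × V6 × V6} (h : FourOK d) (v : V6) :
    (four d : V6 ≃ₗ[ZMod 2] V6) v = fourV d v := by
  rw [four, Subgroup.coe_mul, mul_app, rot_app h.2.2.1 h.2.2.2, rot_app h.1 h.2.1]
  rfl

theorem four_mem {d : V6 × V6 × V6 × V6} (h : FourOK d) : four d ∈ commutator (O phi) :=
  mul_mem (rot_mem h.1 h.2.1) (rot_mem h.2.2.1 h.2.2.2)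

theorem wData_ok : FourOK wData := by unfold FourOK; decide +kernel

theorem sData_ok : FourOK sData := by unfold FourOK; decide +kernel

/-- the interchange of the last two planes -/
noncomputable def wO : O phi := four wData
/-- the interchange of the first two planes -/
noncomputable def sO : O phi := four sData

theorem fq_basis : fq A0 = 1 ∧ fq U0 = 1 ∧ fq E1 = 1 ∧ fq F1 = 1 ∧ fq E2 = 1 ∧ fq F2 = 1 := by
  decide +kernel

theorem g0_app (v : V6) : (g0 : V6 ≃ₗ[ZMod 2] V6) v = rotV A0 U0 v :=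
  rot_app fq_basis.1 fq_basis.2.1 v

theorem r1_app (v : V6) : (r1 : V6 ≃ₗ[ZMod 2] V6) v = rotV E1 F1 v :=
  rot_app fq_basis.2.2.1 fq_basis.2.2.2.1 v

theorem r2_app (v : V6) : (r2 : V6 ≃ₗ[ZMod 2] V6) v = rotV E2 F2 v :=
  rot_app fq_basis.2.2.2.2.1 fq_basis.2.2.2.2.2 v

theorem iO_app (v : V6) : (iO : V6 ≃ₗ[ZMod 2] V6) v = refV E1 (refV E2 v) := by
  rw [iO, Subgroup.coe_mul, mul_app, rO_refV fq_basis.2.2.1, rO_refV fq_basis.2.2.2.2.1]

theorem nO_app (v : V6) : (nO : V6 ≃ₗ[ZMod 2] V6) v = refV A0 (refV E2 v) := by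
  rw [nO, Subgroup.coe_mul, mul_app, rO_refV fq_basis.1, rO_refV fq_basis.2.2.2.2.1]

theorem wO_app (v : V6) : (wO : V6 ≃ₗ[ZMod 2] V6) v = fourV wData v := four_app wData_ok v

theorem sO_app (v : V6) : (sO : V6 ≃ₗ[ZMod 2] V6) v = fourV sData v := four_app sData_ok v

theorem g0_mem : g0 ∈ commutator (O phi) := rot_mem fq_basis.1 fq_basis.2.1

theorem r1_mem : r1 ∈ commutator (O phi) := rot_mem fq_basis.2.2.1 fq_basis.2.2.2.1

theorem r2_mem : r2 ∈ commutator (O phi) := rot_mem fq_basis.2.2.2.2.1 fq_basis.2.2.2.2.2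

theorem iO_mem : iO ∈ commutator (O phi) := rot_mem fq_basis.2.2.1 fq_basis.2.2.2.2.1

theorem nO_mem : nO ∈ commutator (O phi) := rot_mem fq_basis.1 fq_basis.2.2.2.2.1

/-- the basis -/
def bas : List V6 := [A0, U0, E1, F1, E2, F2]

theorem expand : ∀ v : V6, v = fb v U0 • A0 + fb v A0 • U0 + fb v F1 • E1 + fb v E1 • F1 +
    fb v F2 • E2 + fb v E2 • F2 := by
  decide +kernel

theorem ext_bas {g h : O phi}
    (e : ∀ b ∈ bas, (g : V6 ≃ₗ[ZMod 2] V6) b = (h : V6 ≃ₗ[ZMod 2] V6) b) : g = h :=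
  O.ext_app fun v => by
    conv_lhs => rw [expand v]
    conv_rhs => rw [expand v]
    simp only [bas, List.forall_mem_cons, List.not_mem_nil, IsEmpty.forall_iff, implies_true,
      and_true] at e
    obtain ⟨e1, e2, e3, e4, e5, e6⟩ := e
    simp only [map_add, map_smul, e1, e2, e3, e4, e5, e6]

theorem rot_facts :
    (∀ v, rotV A0 U0 (rotV A0 U0 (rotV A0 U0 v)) = v) ∧
    (∀ v, rotV E1 F1 (rotV E1 F1 (rotV E1 F1 v)) = v) ∧
    (∀ v, rotV E2 F2 (rotV E2 F2 (rotV E2 F2 v)) = v) ∧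
    (∀ v, rotV A0 U0 (rotV E1 F1 v) = rotV E1 F1 (rotV A0 U0 v)) ∧
    (∀ v, rotV A0 U0 (rotV E2 F2 v) = rotV E2 F2 (rotV A0 U0 v)) ∧
    (∀ v, rotV E1 F1 (rotV E2 F2 v) = rotV E2 F2 (rotV E1 F1 v)) := by
  decide +kernel

theorem g0_three : g0 * (g0 * g0) = 1 := O.ext_app fun v => by
  simp only [Subgroup.coe_mul, mul_app, g0_app, rot_facts.1]
  rfl

theorem r1_three : r1 * (r1 * r1) = 1 := O.ext_app fun v => by
  simp only [Subgroup.coe_mul, mul_app, r1_app, rot_facts.2.1]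
  rfl

theorem r2_three : r2 * (r2 * r2) = 1 := O.ext_app fun v => by
  simp only [Subgroup.coe_mul, mul_app, r2_app, rot_facts.2.2.1]
  rfl

theorem g0_r1 : g0 * r1 = r1 * g0 := O.ext_app fun v => by
  simp only [Subgroup.coe_mul, mul_app, g0_app, r1_app, rot_facts.2.2.2.1]

theorem g0_r2 : g0 * r2 = r2 * g0 := O.ext_app fun v => by
  simp only [Subgroup.coe_mul, mul_app, g0_app, r2_app, rot_facts.2.2.2.2.1]

theorem r1_r2 : r1 * r2 = r2 * r1 := O.ext_app fun v => by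
  simp only [Subgroup.coe_mul, mul_app, r1_app, r2_app, rot_facts.2.2.2.2.2]

theorem swap_facts :
    (∀ v, fourV wData (rotV A0 U0 v) = rotV A0 U0 (fourV wData v)) ∧
    (∀ v, refV E1 (refV E2 (rotV A0 U0 v)) = rotV A0 U0 (refV E1 (refV E2 v))) ∧
    (∀ v, fourV sData (rotV E1 F1 v) = rotV A0 U0 (fourV sData v)) ∧
    (∀ v, refV A0 (refV E2 (rotV A0 U0 (rotV A0 U0 v))) = rotV A0 U0 (refV A0 (refV E2 v))) ∧
    (∀ v, refV E1 (refV E2 (rotV E1 F1 (rotV E1 F1 v))) = rotV E1 F1 (refV E1 (refV E2 v))) ∧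
    refV A0 (refV E2 ((1, 0), 0)) = (((1, 0), 0) : V6) := by
  decide +kernel

theorem wO_g0 : wO * g0 * wO⁻¹ = g0 := by
  rw [mul_inv_eq_iff_eq_mul]
  exact O.ext_app fun v => by simp only [Subgroup.coe_mul, mul_app, wO_app, g0_app, swap_facts.1]

theorem iO_g0 : iO * g0 * iO⁻¹ = g0 := by
  rw [mul_inv_eq_iff_eq_mul]
  exact O.ext_app fun v => by
    simp only [Subgroup.coe_mul, mul_app, iO_app, g0_app, swap_facts.2.1]

theorem sO_r1 : sO * r1 * sO⁻¹ = g0 := by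
  rw [mul_inv_eq_iff_eq_mul]
  exact O.ext_app fun v => by
    simp only [Subgroup.coe_mul, mul_app, sO_app, g0_app, r1_app, swap_facts.2.2.1]

theorem nO_g0 : nO * (g0 * g0) * nO⁻¹ = g0 := by
  rw [mul_inv_eq_iff_eq_mul]
  exact O.ext_app fun v => by
    simp only [Subgroup.coe_mul, mul_app, nO_app, g0_app, swap_facts.2.2.2.1]

theorem iO_r1 : iO * (r1 * r1) * iO⁻¹ = r1 := by
  rw [mul_inv_eq_iff_eq_mul]
  exact O.ext_app fun v => by
    simp only [Subgroup.coe_mul, mul_app, iO_app, r1_app, swap_facts.2.2.2.2.1]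

theorem nO_v0 : (nO : V6 ≃ₗ[ZMod 2] V6) v0 = v0 := by
  rw [nO_app]; exact swap_facts.2.2.2.2.2

/-- exponents of a code -/
def xl (x : ℕ) : ℕ := x % 3
/-- exponent of `r1` -/
def xa (x : ℕ) : ℕ := x / 3 % 3
/-- exponent of `r2` -/
def xb (x : ℕ) : ℕ := x / 9 % 3
/-- exponent of `wO` -/
def xq (x : ℕ) : ℕ := x / 27 % 2
/-- exponent of `iO` -/
def xp (x : ℕ) : ℕ := x / 54 % 2

/-- the element of the centraliser of `g0` with code `x` -/
noncomputable def kO (x : ℕ) : O phi :=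
  g0 ^ xl x * (wO ^ xq x * (r1 ^ xa x * (iO ^ xp x * r2 ^ xb x)))

/-- iterate -/
def itV (f : V6 → V6) : ℕ → V6 → V6
  | 0, v => v
  | n + 1, v => f (itV f n v)

/-- its action -/
def kV (x : ℕ) (v : V6) : V6 :=
  itV (rotV A0 U0) (xl x) (itV (fourV wData) (xq x) (itV (rotV E1 F1) (xa x)
    (itV (fun u => refV E1 (refV E2 u)) (xp x) (itV (rotV E2 F2) (xb x) v))))

theorem pow_itV {g : O phi} {f : V6 → V6} (h : ∀ v, (g : V6 ≃ₗ[ZMod 2] V6) v = f v) (n : ℕ)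
    (v : V6) : ((g ^ n : O phi) : V6 ≃ₗ[ZMod 2] V6) v = itV f n v := by
  induction n with
  | zero => rfl
  | succ n ih => rw [pow_succ', Subgroup.coe_mul, mul_app, ih, h]; rfl

theorem kO_app (x : ℕ) (v : V6) : (kO x : V6 ≃ₗ[ZMod 2] V6) v = kV x v := by
  simp only [kO, kV, Subgroup.coe_mul, mul_app, pow_itV g0_app, pow_itV wO_app, pow_itV r1_app,
    pow_itV iO_app, pow_itV r2_app]

theorem kO_mem (x : ℕ) : kO x ∈ commutator (O phi) :=
  mul_mem (pow_mem g0_mem _) (mul_mem (pow_mem (four_mem wData_ok) _) (mul_mem (pow_mem r1_mem _)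
    (mul_mem (pow_mem iO_mem _) (pow_mem r2_mem _))))

theorem kO_comm (x : ℕ) : kO x * g0 = g0 * kO x := by
  have hw : Commute wO g0 := mul_inv_eq_iff_eq_mul.1 wO_g0
  have hi : Commute iO g0 := mul_inv_eq_iff_eq_mul.1 iO_g0
  have h1 : Commute r1 g0 := g0_r1.symm
  have h2 : Commute r2 g0 := g0_r2.symm
  exact (((Commute.refl g0).pow_left _).mul_left ((hw.pow_left _).mul_left ((h1.pow_left _).mul_left
    ((hi.pow_left _).mul_left (h2.pow_left _))))).eq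

theorem plane_facts :
    (∀ v, rotV A0 U0 v = v ↔ fb A0 v = 0 ∧ fb U0 v = 0) ∧
    (∀ v, rotV A0 U0 v + v ∈ [(0 : V6), A0, U0, A0 + U0]) ∧
    (∀ v, rotV A0 U0 v = v → fq v = 1 → v ∈ [E1, F1, E1 + F1, E2, F2, E2 + F2]) ∧
    (∀ v, rotV A0 U0 v = v → ∃ x ∈ [(0 : V6), E1, F1, E1 + F1], ∃ y ∈ [(0 : V6), E2, F2, E2 + F2],
      v = x + y) ∧
    A0 = rotV A0 U0 U0 + U0 := by
  decide +kernel

theorem kV_facts : ∀ x < 108, kV x A0 = itV (rotV A0 U0) (xl x) A0 ∧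
    kV x U0 = itV (rotV A0 U0) (xl x) U0 ∧ kV x E1 = kV (3 * (x / 3)) E1 ∧
    kV x F1 = kV (3 * (x / 3)) F1 ∧ kV x E2 = kV (3 * (x / 3)) E2 ∧
    kV x F2 = kV (3 * (x / 3)) F2 ∧
    kV x (refV E2 E1) = kV (3 * (x / 3)) (refV E2 E1) ∧
    kV x (refV E2 F1) = kV (3 * (x / 3)) (refV E2 F1) ∧
    kV x (refV E2 E2) = kV (3 * (x / 3)) (refV E2 E2) ∧
    kV x (refV E2 F2) = kV (3 * (x / 3)) (refV E2 F2) := by
  decide +kernel

theorem frames : ∀ e1 ∈ [E1, F1, E1 + F1, E2, F2, E2 + F2],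
    ∀ f1 ∈ [E1, F1, E1 + F1, E2, F2, E2 + F2], fb e1 f1 = 1 →
    ∀ e2 ∈ [E1, F1, E1 + F1, E2, F2, E2 + F2], fb e1 e2 = 0 → fb f1 e2 = 0 →
    ∀ f2 ∈ [E1, F1, E1 + F1, E2, F2, E2 + F2], fb e1 f2 = 0 → fb f1 f2 = 0 → fb e2 f2 = 1 →
    ∃ y < 36, (kV (3 * y) E1 = e1 ∧ kV (3 * y) F1 = f1 ∧ kV (3 * y) E2 = e2 ∧ kV (3 * y) F2 = f2) ∨
      (kV (3 * y) (refV E2 E1) = e1 ∧ kV (3 * y) (refV E2 F1) = f1 ∧
        kV (3 * y) (refV E2 E2) = e2 ∧ kV (3 * y) (refV E2 F2) = f2) := by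
  decide +kernel

theorem rot_orbit : ∀ a ∈ [A0, U0, A0 + U0], ∃ l < 3, itV (rotV A0 U0) l A0 = a ∧
    itV (rotV A0 U0) l U0 = rotV A0 U0 a := by
  decide +kernel

theorem bilin_facts : fb E1 F1 = 1 ∧ fb E2 F2 = 1 ∧ fb E1 E2 = 0 ∧ fb F1 E2 = 0 ∧ fb E1 F2 = 0 ∧
    fb F1 F2 = 0 ∧ rotV A0 U0 A0 = U0 ∧ rotV A0 U0 E1 = E1 ∧ rotV A0 U0 F1 = F1 ∧
    rotV A0 U0 E2 = E2 ∧ rotV A0 U0 F2 = F2 ∧ refV E2 A0 = A0 ∧ refV E2 U0 = U0 := by
  decide +kernel

/-- the centraliser of `g0` in the commutator subgroup -/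
theorem exists_code {k : O phi} (hk : k ∈ commutator (O phi)) (hc : k * g0 = g0 * k) :
    ∃ x < 108, k = kO x := by
  obtain ⟨b1, b2, b3, b4, b5, b6, bA, bE1, bF1, bE2, bF2, bRA, bRU⟩ := bilin_facts
  obtain ⟨-, -, qE1, qF1, qE2, qF2⟩ := fq_basis
  have hsw : ∀ v, (k : V6 ≃ₗ[ZMod 2] V6) (rotV A0 U0 v) = rotV A0 U0 ((k : V6 ≃ₗ[ZMod 2] V6) v) := by
    intro v
    rw [← g0_app, ← g0_app, ← mul_app, ← mul_app, ← Subgroup.coe_mul, ← Subgroup.coe_mul, hc]
  have six : ∀ {v}, rotV A0 U0 v = v → fq v = 1 →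
      (k : V6 ≃ₗ[ZMod 2] V6) v ∈ [E1, F1, E1 + F1, E2, F2, E2 + F2] := fun {v} hv hq =>
    plane_facts.2.2.1 _ (by rw [← hsw, hv]) (by rw [fq_app, hq])
  have hA : (k : V6 ≃ₗ[ZMod 2] V6) A0 ∈ [A0, U0, A0 + U0] := by
    have h := plane_facts.2.1 ((k : V6 ≃ₗ[ZMod 2] V6) U0)
    rw [← hsw, ← map_add, ← plane_facts.2.2.2.2] at h
    rcases List.mem_cons.1 h with h | h
    · exact absurd ((LinearEquiv.map_eq_zero_iff _).1 h) (by decide +kernel)
    · exact h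
  obtain ⟨l, hl, lA, lU⟩ := rot_orbit _ hA
  have hU : (k : V6 ≃ₗ[ZMod 2] V6) U0 = rotV A0 U0 ((k : V6 ≃ₗ[ZMod 2] V6) A0) := by
    rw [← hsw, bA]
  obtain ⟨y, hy, hcase⟩ := frames _ (six bE1 qE1) _ (six bF1 qF1) (by rw [fb_app, b1])
    _ (six bE2 qE2) (by rw [fb_app, b3]) (by rw [fb_app, b4])
    _ (six bF2 qF2) (by rw [fb_app, b5]) (by rw [fb_app, b6]) (by rw [fb_app, b2])
  have hx : l + 3 * y < 108 := by omega
  obtain ⟨kA, kU, k1, k2, k3, k4, r1', r2', r3', r4'⟩ := kV_facts _ hx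
  have e3 : 3 * ((l + 3 * y) / 3) = 3 * y := by omega
  have exl : xl (l + 3 * y) = l := by unfold xl; omega
  rw [exl, lA] at kA
  rw [exl, lU, ← hU] at kU
  rw [e3] at k1 k2 k3 k4 r1' r2' r3' r4'
  refine ⟨_, hx, ?_⟩
  rcases hcase with ⟨c1, c2, c3, c4⟩ | ⟨c1, c2, c3, c4⟩
  · refine ext_bas ?_
    simp only [bas, List.forall_mem_cons, List.not_mem_nil, IsEmpty.forall_iff, implies_true,
      and_true, kO_app, kA, kU, k1, k2, k3, k4, c1, c2, c3, c4]
  · exfalso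
    have hEQ : ∀ v ∈ bas, (k : V6 ≃ₗ[ZMod 2] V6) v = kV (l + 3 * y) (refV E2 v) := by
      simp only [bas, List.forall_mem_cons, List.not_mem_nil, IsEmpty.forall_iff, implies_true,
        and_true, bRA, bRU, kA, kU, r1', r2', r3', r4', c1, c2, c3, c4]
    have e : k = kO (l + 3 * y) * rO phi E2 := ext_bas fun v hv => by
      rw [hEQ v hv, Subgroup.coe_mul, mul_app, rO_refV qE2, kO_app]
    refine rO_not_mem_K (a := E2) (by rw [phi_fq, qE2]; exact one_ne_zero) ?_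
    have := mul_mem (inv_mem (kO_mem (l + 3 * y))) hk
    rwa [e, inv_mul_cancel_left] at this

/-- a number for a vector -/
def vnum (v : V6) : ℕ :=
  v.1.1.val + 2 * v.1.2.val + 4 * v.2.1.val + 8 * v.2.2.1.val + 16 * v.2.2.2.1.val +
    32 * v.2.2.2.2.val

/-- a number for a code -/
def knum (x : ℕ) : ℕ := (bas.map fun b => vnum (kV x b)).foldl (fun s n => 64 * s + n) 0

theorem knum_nodup : ((List.range 108).map knum).Nodup := by decide +kernel

theorem kO_inj {x y : ℕ} (hx : x < 108) (hy : y < 108) (h : kO x = kO y) : x = y := by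
  refine List.inj_on_of_nodup_map knum_nodup (List.mem_range.2 hx) (List.mem_range.2 hy) ?_
  unfold knum
  simp only [← kO_app, h]

theorem normal_facts : ∀ x < 108,
    (∃ a < 3, ∃ b < 3, ∀ v ∈ bas, kV x (rotV E1 F1 v) = itV (rotV E1 F1) a (itV (rotV E2 F2) b (kV x v))) ∧
    (∃ a < 3, ∃ b < 3, ∀ v ∈ bas, kV x (rotV E2 F2 v) = itV (rotV E1 F1) a (itV (rotV E2 F2) b (kV x v))) ∧
    (kV x E1 = E1 → kV x F1 = F1 → kV x E2 = E2 → kV x F2 = F2 → x < 3) := by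
  decide +kernel

theorem conj_r1 {x : ℕ} (hx : x < 108) :
    ∃ a < 3, ∃ b < 3, kO x * r1 * (kO x)⁻¹ = r1 ^ a * r2 ^ b := by
  obtain ⟨a, ha, b, hb, e⟩ := (normal_facts x hx).1
  refine ⟨a, ha, b, hb, mul_inv_eq_iff_eq_mul.2 (ext_bas fun v hv => ?_)⟩
  simp only [Subgroup.coe_mul, mul_app, kO_app, r1_app, pow_itV r1_app, pow_itV r2_app, e v hv]

theorem conj_r2 {x : ℕ} (hx : x < 108) :
    ∃ a < 3, ∃ b < 3, kO x * r2 * (kO x)⁻¹ = r1 ^ a * r2 ^ b := by
  obtain ⟨a, ha, b, hb, e⟩ := (normal_facts x hx).2.1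
  refine ⟨a, ha, b, hb, mul_inv_eq_iff_eq_mul.2 (ext_bas fun v hv => ?_)⟩
  simp only [Subgroup.coe_mul, mul_app, kO_app, r2_app, pow_itV r1_app, pow_itV r2_app, e v hv]

theorem kO_small {x : ℕ} (hx : x < 3) : kO x = g0 ^ x := by
  have : ∀ n < 3, xl n = n ∧ xa n = 0 ∧ xb n = 0 ∧ xp n = 0 ∧ xq n = 0 := by decide +kernel
  obtain ⟨h1, h2, h3, h4, h5⟩ := this x hx
  simp [kO, h1, h2, h3, h4, h5]

end Cfsg.Agent.H66.SuzY
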