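import Cfsg.Agent.H66.SuzY.Loc
import Cfsg.Agent.H66.SuzY.Fuse
import Cfsg.Agent.H66.UFour.Ident

/-!
The centraliser of the rotation modulo the rotation satisfies the hypotheses for `U4(3)`.
-/

set_option autoImplicit false
set_option linter.unusedSectionVars false
set_option linter.style.haveILetI false
set_option synthInstance.maxSize 4000
set_option synthInstance.maxHeartbeats 400000
set_option maxRecDepth 20000

namespace Cfsg.Agent.H66.SuzY

open QuadraticMap Cfsg.Agent.Orthogonal Cfsg.Agent.H73.Suz Cfsg.Agent.H92.ExtraForm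
open Cfsg.Agent.H66.UFour

variable {G : Type*} [Group G] [Finite G] {z : G} {Q : Subgroup G} {h : Setup z Q}
variable {y t1 t2 i1 i2 : G}

/-- the centraliser -/
abbrev CY (y : G) : Subgroup G := Subgroup.centralizer ((Subgroup.zpowers y : Subgroup G) : Set G)

theorem mem_CY {y x : G} : x ∈ CY y ↔ x * y = y * x := by
  rw [Subgroup.mem_centralizer_iff]
  constructor
  · intro hx
    exact (hx y (Subgroup.mem_zpowers y)).symm
  · rintro hx _ ⟨k, rfl⟩
    exact ((show Commute x y from hx).zpow_right k).eq.symm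

/-- the subgroup generated by `y` in its centraliser -/
abbrev NY (y : G) : Subgroup (CY y) := (Subgroup.zpowers y).subgroupOf (CY y)

theorem NY_normal (y : G) : (NY y).Normal := by
  constructor
  intro n hn g
  rw [Subgroup.mem_subgroupOf] at hn ⊢
  obtain ⟨k, hk⟩ := hn
  have hc : Commute (g : G) (n : G) := by
    rw [← hk]; exact (show Commute (g : G) y from mem_CY.1 g.2).zpow_right k
  push_cast
  rw [hc.eq, mul_inv_cancel_right]
  exact ⟨k, hk⟩

/-- the quotient group -/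
abbrev QY (y : G) := CY y ⧸ NY y

instance (y : G) : (NY y).Normal := NY_normal y

namespace Cfg

variable (C : Cfg h y t1 t2 i1 i2)
include C

theorem y_three : y ^ 3 = 1 := by rw [pow_succ', pow_two, C.hy.cube]

theorem mk_eq {a b : CY y} (e : (a : QY y) = b) : ∃ l < 3, (b : G) = a * y ^ l := by
  rw [QuotientGroup.eq, Subgroup.mem_subgroupOf] at e
  obtain ⟨k, hk⟩ := (mem_powers_iff_mem_zpowers.2 e : ((a⁻¹ * b : CY y) : G) ∈ Submonoid.powers y)
  refine ⟨k % 3, Nat.mod_lt _ (by norm_num), ?_⟩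
  rw [← pow_eq_pow_mod k C.y_three]
  push_cast at hk
  change y ^ k = _ at hk
  rw [hk, mul_inv_cancel_left]

omit C in
theorem eq_mk {a b : CY y} (l : ℕ) (e : (b : G) = a * y ^ l) : (a : QY y) = b := by
  rw [QuotientGroup.eq, Subgroup.mem_subgroupOf]
  push_cast
  rw [e, inv_mul_cancel_left]
  exact pow_mem (Subgroup.mem_zpowers y) l

theorem zCY : z ∈ CY y := mem_CY.2 C.hy.xz.symm

/-- the image of `z` -/
def zb : QY y := ((⟨z, C.zCY⟩ : CY y) : QY y)

theorem homCY (A : S2) : C.tri1.hom A ∈ CY y ∧ C.tri2.hom A ∈ CY y :=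
  ⟨mem_CY.2 (C.comm_y A).1.eq.symm, mem_CY.2 (C.comm_y A).2.eq.symm⟩

/-- the first homomorphism -/
noncomputable def e1 : S2 →* QY y :=
  (QuotientGroup.mk' (NY y)).comp (C.tri1.hom.codRestrict (CY y) fun A => (C.homCY A).1)

/-- the second homomorphism -/
noncomputable def e2 : S2 →* QY y :=
  (QuotientGroup.mk' (NY y)).comp (C.tri2.hom.codRestrict (CY y) fun A => (C.homCY A).2)

theorem pp_mk (A B : S2) :
    C.e1 A * C.e2 B = ((⟨C.tri1.hom A * C.tri2.hom B,
      mul_mem (C.homCY A).1 (C.homCY B).2⟩ : CY y) : QY y) := rfl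

theorem inQ_bar (x : CY y) : InQ C.e1 C.e2 (x : QY y) ↔
    ∃ l : ℕ, (x : G) * y ^ l ∈ Q := by
  constructor
  · rintro ⟨a, ha, b, hb, qa, qb, e⟩
    rw [pp, C.pp_mk] at e
    obtain ⟨l, -, hl⟩ := C.mk_eq e.symm
    exact ⟨l, hl ▸ ((C.inQ_iff _).1 ⟨a, ha, b, hb, qa, qb, rfl⟩).1⟩
  · rintro ⟨l, hl⟩
    have hm : (x : G) * y ^ l * y = y * ((x : G) * y ^ l) :=
      ((show Commute (x : G) y from mem_CY.1 x.2).mul_left ((Commute.refl y).pow_left l)).eq
    obtain ⟨a, ha, b, hb, qa, qb, e⟩ := (C.inQ_iff _).2 ⟨hl, hm⟩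
    refine ⟨a, ha, b, hb, qa, qb, ?_⟩
    rw [pp, C.pp_mk]
    exact (eq_mk l e).symm

theorem conj_z_eq {x : CY y} (e : (x : QY y) * C.zb = C.zb * (x : QY y)) :
    (x : G) * z = z * (x : G) := by
  rw [zb, ← QuotientGroup.mk_mul, ← QuotientGroup.mk_mul] at e
  obtain ⟨l, hl, e'⟩ := C.mk_eq e
  push_cast at e'
  have hxy : Commute (x : G) y := mem_CY.1 x.2
  have hzy : Commute z y := C.hy.xz.symm
  have h2 : (x : G)⁻¹ * z * x = z * y ^ l := by
    rw [mul_assoc, e', ← mul_assoc, ← mul_assoc, inv_mul_cancel, one_mul]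
  have h4 : y ^ (l + l) = 1 := by
    have : (x : G)⁻¹ * z * x * ((x : G)⁻¹ * z * x) = 1 := by
      calc (x : G)⁻¹ * z * x * ((x : G)⁻¹ * z * x) = (x : G)⁻¹ * (z * z) * x := by group
        _ = 1 := by rw [h.zz, mul_one, inv_mul_cancel]
    rw [h2] at this
    calc y ^ (l + l) = z * z * (y ^ l * y ^ l) := by rw [h.zz, one_mul, pow_add]
      _ = z * y ^ l * (z * y ^ l) := by
        rw [mul_assoc z (y ^ l), ← mul_assoc (y ^ l) z, ← (hzy.pow_right l).eq]; simp only [mul_assoc]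
      _ = 1 := this
  have hy1 : y ≠ 1 := fun e0 => by
    have h1 : C.tri1.hom (1 : S2) * C.tri2.hom 1 * y ^ 1 = 1 := by
      rw [map_one, map_one, one_mul, one_mul, pow_one, e0]
    exact absurd (C.indep (by norm_num) h1).1 one_ne_zero
  have hy2 : y * y ≠ 1 := fun e0 => hy1 (by
    have := C.hy.cube; rwa [e0, mul_one] at this)
  interval_cases l
  · rw [pow_zero, mul_one] at h2
    calc (x : G) * z = (x : G) * ((x : G)⁻¹ * z * x) := by rw [h2]
      _ = z * x := by group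
  · exact absurd (by rw [← pow_two]; exact h4) hy2
  · refine absurd ?_ hy1
    rw [show 2 + 2 = 3 + 1 from rfl, pow_add, C.y_three, one_mul, pow_one] at h4
    exact h4

theorem card_cent : Nat.card (Subgroup.centralizer ({C.zb} : Set (QY y))) = 1152 := by
  set S : Subgroup (CY y) := (Subgroup.centralizer ({z} : Set G)).subgroupOf (CY y) with hS
  have cS : Nat.card S = 3456 := by
    rw [← C.card_loc]
    exact Nat.card_congr
      { toFun := fun x => ⟨x.1.1, Subgroup.mem_centralizer_singleton_iff.1 x.2, mem_CY.1 x.1.2⟩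
        invFun := fun x => ⟨⟨x.1, mem_CY.2 x.2.2⟩, Subgroup.mem_centralizer_singleton_iff.2 x.2.1⟩
        left_inv := fun x => rfl
        right_inv := fun x => rfl }
  set φ : S →* QY y := (QuotientGroup.mk' (NY y)).comp S.subtype with hφ
  have hr : φ.range = Subgroup.centralizer ({C.zb} : Set (QY y)) := by
    ext q
    rw [Subgroup.mem_centralizer_singleton_iff]
    constructor
    · rintro ⟨⟨x, hx⟩, rfl⟩
      have hx' := Subgroup.mem_centralizer_singleton_iff.1 hx
      show (x : QY y) * C.zb = C.zb * (x : QY y)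
      rw [zb, ← QuotientGroup.mk_mul, ← QuotientGroup.mk_mul]
      exact congrArg (QuotientGroup.mk (s := NY y)) (Subtype.ext hx')
    · intro hq
      obtain ⟨x, rfl⟩ := QuotientGroup.mk_surjective q
      exact ⟨⟨x, Subgroup.mem_centralizer_singleton_iff.2 (C.conj_z_eq hq)⟩, rfl⟩
  have hk : Nat.card φ.ker = 3 := by
    have hyy : y ≠ 1 := fun e0 => by
      have h1 : C.tri1.hom (1 : S2) * C.tri2.hom 1 * y ^ 1 = 1 := by
        rw [map_one, map_one, one_mul, one_mul, pow_one, e0]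
      exact absurd (C.indep (by norm_num) h1).1 one_ne_zero
    rw [show 3 = Nat.card (Subgroup.zpowers y) by
      rw [Nat.card_zpowers]; exact (orderOf_eq_prime C.y_three hyy).symm]
    have hzp : ∀ g ∈ Subgroup.zpowers y, g * z = z * g ∧ g * y = y * g := by
      rintro _ ⟨k, rfl⟩
      exact ⟨((show Commute y z from C.hy.xz).zpow_left k).eq, ((Commute.refl y).zpow_left k).eq⟩
    exact Nat.card_congr
      { toFun := fun x => ⟨x.1.1.1, Subgroup.mem_subgroupOf.1 ((QuotientGroup.eq_one_iff x.1.1).1 x.2)⟩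
        invFun := fun x => ⟨⟨⟨x.1, mem_CY.2 (hzp _ x.2).2⟩,
          Subgroup.mem_centralizer_singleton_iff.2 (hzp _ x.2).1⟩,
          (QuotientGroup.eq_one_iff _).2 (Subgroup.mem_subgroupOf.2 x.2)⟩
        left_inv := fun x => rfl
        right_inv := fun x => rfl }
  rw [← hr]
  have h1 := φ.ker.card_mul_index
  rw [Subgroup.index_ker, hk, cS] at h1
  omega

theorem raw (hcz : Nat.card (Subgroup.centralizer ({z} : Set G)) = 128 * 25920) :
    Raw C.zb C.e1 C.e2 := by
  have hneg : ((⟨z, C.zCY⟩ : CY y) : QY y) = C.zb := rfl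
  have hform : ∀ A B, C.e1 A = C.e2 B → (A = 1 ∧ B = 1) ∨ (A = -1 ∧ B = -1) := by
    intro A B e
    have e' : C.e1 A * C.e2 B⁻¹ = 1 := by rw [e, ← map_mul, mul_inv_cancel, map_one]
    rw [C.pp_mk] at e'
    obtain ⟨l, hl, hl'⟩ := C.mk_eq e'
    rcases (C.indep hl hl'.symm).2 with ⟨a, b⟩ | ⟨a, b⟩
    · exact Or.inl ⟨a, inv_eq_one.1 b⟩
    · refine Or.inr ⟨a, ?_⟩
      rw [← inv_inv B, b]
      exact inv_eq_of_mul_eq_one_right (by simp)
  have n1 : C.e1 (-1) = C.zb := congrArg (QuotientGroup.mk (s := NY y)) (Subtype.ext C.tri1.hom_neg)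
  have n2 : C.e2 (-1) = C.zb := congrArg (QuotientGroup.mk (s := NY y)) (Subtype.ext C.tri2.hom_neg)
  have hz1 : C.zb ≠ 1 := by
    intro e
    obtain ⟨l, hl, hl'⟩ := C.mk_eq e
    push_cast at hl'
    change (1 : G) = z * y ^ l at hl'
    have h1 : C.tri1.hom (-1) * C.tri2.hom 1 * y ^ l = 1 := by
      rw [C.tri1.hom_neg, map_one, mul_one, hl']
    rcases (C.indep hl h1).2 with ⟨a, -⟩ | ⟨-, b⟩
    · exact h.z_ne (by rw [← C.tri1.hom_neg, a, map_one])
    · exact h.z_ne (by rw [← C.tri2.hom_neg, ← b, map_one])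
  have inj : ∀ (f : S2 →* QY y), f (-1) = C.zb → (∀ A, f A = 1 → A = 1 ∨ A = -1) →
      Function.Injective f := by
    intro f hn hk
    rw [← MonoidHom.ker_eq_bot_iff, eq_bot_iff]
    intro A hA
    rcases hk A hA with a | a
    · exact a
    · exact absurd (by rw [← hn, ← a]; exact hA) hz1
  have lift : ∀ q : QY y, ∃ x : CY y, (x : QY y) = q := QuotientGroup.mk_surjective
  refine ⟨hz1, ?_, n1, n2, inj _ n1 ?_, inj _ n2 ?_, ?_, hform, C.card_cent, ?_, ?_, ?_, ?_, ?_⟩
  · rw [zb, ← QuotientGroup.mk_mul]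
    exact (congrArg (QuotientGroup.mk (s := NY y)) (Subtype.ext h.zz :
      (⟨z, C.zCY⟩ : CY y) * ⟨z, C.zCY⟩ = 1)).trans rfl
  · intro A hA
    rcases hform A 1 (hA.trans (map_one _).symm) with ⟨a, -⟩ | ⟨a, -⟩
    · exact Or.inl a
    · exact Or.inr a
  · intro B hB
    rcases hform 1 B ((map_one _).trans hB.symm) with ⟨-, b⟩ | ⟨-, b⟩
    · exact Or.inl b
    · exact Or.inr b
  · intro A B
    exact congrArg (QuotientGroup.mk (s := NY y)) (Subtype.ext (C.comm12 A B).eq)
  · intro q hq A B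
    obtain ⟨x, rfl⟩ := lift q
    obtain ⟨A', B', l, e⟩ := C.conj_D (C.conj_z_eq hq) (mem_CY.1 x.2) A B
    refine ⟨A', B', ?_⟩
    rw [C.pp_mk, C.pp_mk]
    symm
    refine eq_mk l ?_
    exact e
  · intro q hq u hu
    obtain ⟨x, rfl⟩ := lift q
    obtain ⟨v, rfl⟩ := lift u
    obtain ⟨l, hl⟩ := (C.inQ_bar v).1 hu
    refine (C.inQ_bar (x * v * x⁻¹)).2 ⟨l, ?_⟩
    have hxl : Commute (x : G) (y ^ l) := (show Commute (x : G) y from mem_CY.1 x.2).pow_right l
    have hm := h.norm _ (C.conj_z_eq hq) _ hl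
    have e : (x : G) * ((v : G) * y ^ l) * (x : G)⁻¹ = (x : G) * v * (x : G)⁻¹ * y ^ l := by
      rw [mul_assoc (x : G), mul_assoc (v : G), ← hxl.inv_left.eq]
      group
    rw [e] at hm
    push_cast
    exact hm
  · intro q hq hall
    obtain ⟨x, rfl⟩ := lift q
    have hxz := C.conj_z_eq hq
    have hcomm : ∀ u ∈ Q, u * y = y * u → (x : G) * u = u * (x : G) := by
      intro u hu huy
      have h1 := hall _ ((C.inQ_bar ⟨u, mem_CY.2 huy⟩).2 ⟨0, by simpa using hu⟩)
      rw [← QuotientGroup.mk_mul, ← QuotientGroup.mk_mul] at h1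
      obtain ⟨l, hl, hl'⟩ := C.mk_eq h1
      push_cast at hl'
      change u * (x : G) = (x : G) * u * y ^ l at hl'
      have hk : (x : G) * (u * y ^ l) * ((x : G))⁻¹ = u := by
        rw [← mul_assoc, ← hl', mul_inv_cancel_right]
      have hmQ := h.norm _ (h.inv_comm hxz) u hu
      have e2 : (x : G)⁻¹ * u * (x : G)⁻¹⁻¹ = u * y ^ l := by
        conv_lhs => rw [← hk]
        group
      rw [e2] at hmQ
      have hyQ : y ^ l ∈ Q := by simpa using mul_mem (inv_mem hu) hmQ
      have h4 := h.pow_four hyQ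
      rw [← pow_mul, show l * 4 = 3 * l + l by ring, pow_add, pow_mul, C.y_three, one_pow,
        one_mul] at h4
      rw [h4, mul_one] at hl'
      exact hl'.symm
    obtain ⟨u, l, ⟨hu, huy⟩, e⟩ := C.cent_Q hxz (mem_CY.1 x.2) hcomm
    refine (C.inQ_bar x).2 ⟨2 * l, ?_⟩
    rw [e, mul_assoc, ← pow_add, show l + 2 * l = 3 * l by ring, pow_mul, C.y_three, one_pow,
      mul_one]
    exact hu
  · obtain ⟨g, s, hgy, hgs, hs, hsy, hsz⟩ := C.exists_fuse hcz
    refine ⟨((⟨g, mem_CY.2 hgy⟩ : CY y) : QY y), ?_, ?_⟩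
    · refine (C.inQ_bar ((⟨g, mem_CY.2 hgy⟩ : CY y) * (⟨z, C.zCY⟩ : CY y) * (⟨g, mem_CY.2 hgy⟩ : CY y)⁻¹)).2 ⟨0, ?_⟩
      push_cast
      rw [pow_zero, mul_one, hgs]
      exact hs
    · intro e
      obtain ⟨l, -, hl'⟩ := C.mk_eq (a := (⟨g, mem_CY.2 hgy⟩ : CY y) * (⟨z, C.zCY⟩ : CY y) * (⟨g, mem_CY.2 hgy⟩ : CY y)⁻¹)
        (b := (⟨z, C.zCY⟩ : CY y)) e
      push_cast at hl'
      rw [hgs] at hl'
      have hyQ : y ^ l ∈ Q := by
        rw [show y ^ l = s⁻¹ * z by rw [hl', inv_mul_cancel_left]]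
        exact mul_mem (inv_mem hs) h.hzQ
      have h4 := h.pow_four hyQ
      rw [← pow_mul, show l * 4 = 3 * l + l by ring, pow_add, pow_mul, C.y_three, one_pow,
        one_mul] at h4
      rw [h4, mul_one] at hl'
      exact hsz hl'.symm
  · intro q hq hne
    obtain ⟨g, rfl⟩ := lift q
    obtain ⟨l, hl⟩ := (C.inQ_bar (g * (⟨z, C.zCY⟩ : CY y) * g⁻¹)).1 hq
    push_cast at hl
    set x := (g : G) * z * (g : G)⁻¹ with hx
    have hgy : Commute (g : G) y := mem_CY.1 g.2
    have hxy : Commute x y := (hgy.mul_left C.hy.xz.symm).mul_left hgy.inv_left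
    have hx2 : x * x = 1 := by rw [hx, conj_mul, h.zz, mul_one, mul_inv_cancel]
    have hl1 : y ^ l = 1 := by
      have hq2 : y ^ l * y ^ l ∈ Q := by
        have := mul_mem hl hl
        rwa [mul_assoc x, ← mul_assoc (y ^ l) x, ← (hxy.pow_right l).eq, ← mul_assoc, ← mul_assoc,
          hx2, one_mul] at this
      rw [← pow_add] at hq2
      have h4 := h.pow_four hq2
      rw [← pow_mul, show (l + l) * 4 = 3 * (2 * l) + 2 * l by ring, pow_add, pow_mul, C.y_three,
        one_pow, one_mul] at h4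
      calc y ^ l = y ^ l * (y ^ (2 * l)) := by rw [h4, mul_one]
        _ = (y ^ 3) ^ l := by rw [← pow_add, ← pow_mul]; congr 1; ring
        _ = 1 := by rw [C.y_three, one_pow]
    have hxQ : x ∈ Q := by rwa [hl1, mul_one] at hl
    have hxz : x ≠ z := fun e => hne (congrArg (QuotientGroup.mk (s := NY y))
      (Subtype.ext e : g * ⟨z, C.zCY⟩ * g⁻¹ = ⟨z, C.zCY⟩))
    have hx1 : x ≠ 1 := fun e => h.z_ne (conj_eq_one_iff.1 e)
    have httQ : ∀ i j, tt z x i j ∈ Q ∧ (tt z x i j) * y = y * tt z x i j := by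
      intro i j
      refine ⟨((inter_iff h rfl hxQ hxz).2 ⟨i, j, rfl⟩).1, ?_⟩
      refine ((show Commute (zp z i) y from ?_).mul_left (show Commute (zp x j) y from ?_)).eq
      · unfold zp; split_ifs; exacts [Commute.one_left y, C.hy.xz.symm]
      · unfold zp; split_ifs; exacts [Commute.one_left y, hxy]
    let f : ZMod 2 × ZMod 2 →
        {v : QY y // InQ C.e1 C.e2 v ∧ InQ C.e1 C.e2 ((g : QY y)⁻¹ * v * (g : QY y))} := fun p =>
      ⟨((⟨tt z x p.1 p.2, mem_CY.2 (httQ _ _).2⟩ : CY y) : QY y),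
        (C.inQ_bar _).2 ⟨0, by simpa using (httQ _ _).1⟩,
        (C.inQ_bar (g⁻¹ * (⟨tt z x p.1 p.2, mem_CY.2 (httQ _ _).2⟩ : CY y) * g)).2 ⟨0, by
          push_cast
          rw [pow_zero, mul_one]
          exact ((inter_iff h rfl hxQ hxz).2 ⟨_, _, rfl⟩).2⟩⟩
    have hf : Function.Bijective f := by
      refine ⟨fun p p' e => tt_injective h hxz hx1 ?_, ?_⟩
      · have e1 : ((⟨tt z x p.1 p.2, mem_CY.2 (httQ _ _).2⟩ : CY y) : QY y) =
            ((⟨tt z x p'.1 p'.2, mem_CY.2 (httQ _ _).2⟩ : CY y) : QY y) := congrArg Subtype.val e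
        obtain ⟨k, -, hk⟩ := C.mk_eq e1
        change tt z x p'.1 p'.2 = tt z x p.1 p.2 * y ^ k at hk
        have hyQ : y ^ k ∈ Q := by
          rw [show y ^ k = (tt z x p.1 p.2)⁻¹ * tt z x p'.1 p'.2 by rw [hk, inv_mul_cancel_left]]
          exact mul_mem (inv_mem (httQ _ _).1) (httQ _ _).1
        have h4 := h.pow_four hyQ
        rw [← pow_mul, show k * 4 = 3 * k + k by ring, pow_add, pow_mul, C.y_three, one_pow,
          one_mul] at h4
        rw [h4, mul_one] at hk
        exact hk.symm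
      · rintro ⟨u, hu, hu'⟩
        obtain ⟨v, rfl⟩ := lift u
        obtain ⟨k, hk⟩ := (C.inQ_bar v).1 hu
        obtain ⟨k', hk'⟩ := (C.inQ_bar (g⁻¹ * v * g)).1 hu'
        push_cast at hk'
        set q := (v : G) * y ^ k with hq
        have e1 : (g : G)⁻¹ * (v : G) * g * y ^ k' = (g : G)⁻¹ * q * g * y ^ (2 * k + k') := by
          have : (g : G)⁻¹ * q * g = (g : G)⁻¹ * (v : G) * g * y ^ k := by
            rw [hq, mul_assoc ((g : G)⁻¹), mul_assoc (v : G), ← (hgy.pow_right k).eq]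
            group
          rw [this, mul_assoc _ (y ^ k), ← pow_add, show k + (2 * k + k') = 3 * k + k' by ring,
            pow_add, pow_mul, C.y_three, one_pow, one_mul]
        rw [e1] at hk'
        have hq4 := h.pow_four hk
        have hconj4 : ((g : G)⁻¹ * q * g) ^ 4 = 1 := by
          have := conj_pow (a := (g : G)⁻¹) (b := q) (i := 4)
          rw [inv_inv] at this
          rw [this, hq4, mul_one, inv_mul_cancel]
        have hcy : Commute ((g : G)⁻¹ * q * g) y :=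
          (hgy.inv_left.mul_left ((show Commute (v : G) y from mem_CY.1 v.2).mul_left
            ((Commute.refl y).pow_left k))).mul_left hgy
        have h5 := h.pow_four hk'
        rw [(hcy.pow_right _).mul_pow, hconj4, one_mul, ← pow_mul,
          show (2 * k + k') * 4 = 3 * (2 * k + k') + (2 * k + k') by ring, pow_add, pow_mul,
          C.y_three, one_pow, one_mul] at h5
        rw [h5, mul_one] at hk'
        obtain ⟨i, j, e⟩ := (inter_iff h rfl hxQ hxz).1 ⟨hk, hk'⟩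
        refine ⟨(i, j), Subtype.ext ?_⟩
        exact (eq_mk (a := v) (b := ⟨tt z x i j, mem_CY.2 (httQ i j).2⟩) k e.symm).symm
    rw [← Nat.card_congr (Equiv.ofBijective f hf), Nat.card_prod, Nat.card_zmod]

theorem exists_hyp_quot (hcz : Nat.card (Subgroup.centralizer ({z} : Set G)) = 128 * 25920) :
    ∃ K : Hyp C.zb, K.F.hom = C.e1 := by
  obtain ⟨F, RF, e⟩ := (C.raw hcz).exists_good_frame_hom
  exact ⟨⟨F, RF⟩, e⟩

end Cfg

end Cfsg.Agent.H66.SuzY
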